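import Cfsg.Agent.Y6.C2

/-! Odd-dimensional overgroups in dimension at least six: the graphs. -/

set_option autoImplicit false
set_option linter.unusedSectionVars false
set_option linter.unusedVariables false

namespace CF.Dq

open Subgroup Equiv CF.Loc CF.LX CF.Ud
open CF.Sq (ev sg cw Jr Jt GJ)

variable {F : Type} [Field F] [Fintype F] [CharP F 2] {m : ℕ} {a c k ζ : F} {g : Perm (Fin m → F)} {u v w n n' : Fin m → F}
  {G : Type*} [Group G] [Finite G] {ρ : SU (1 : F ≃+* F) m →* G} {t : G} {b : (Fin m → F) → (Fin m → F) → G} {y : (Fin m → F) → G}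
  {A : Type} [CommRing A] [CharP A 2] [Finite A] {m' : ℕ} {σ : A ≃+* A} {f : F →+* A} {ω z : A} {ι : (Fin m → F) → Fin m' → A}
  {r x : Fin m' → A} {e : SU (1 : F ≃+* F) m →* Perm (Fin m' → A)} {p : Perm (Fin m' → A) × G}

namespace C5

theorem sd6 (s : Sy6 F m) : Sq.Sd (1 : F ≃+* F) m := ⟨fun _ => rfl, s.ev, s.h6⟩
theorem ad6 (s : Sy6 F m) (v : Fin m → F) : ∃ p : (Fin m → F) × (Fin m → F), Ad v p.1 p.2 := by
  obtain ⟨w, h, e, -⟩ := (sd6 s).out2 v v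
  obtain ⟨n, i, j, -⟩ := (sd6 s).part2 h
  exact ⟨(w, n), e, j, i⟩

end C5

namespace Mc
open C5
variable (s : Sy6 F m) (M : Mc σ f k ω ι r e)
include M

include s
theorem eQ6 (v0 : v ≠ 0) (i : g ∈ SU 1 m) (h : up e g ∈ Q σ (ι v)) : g ∈ Q 1 v := by
  have o := (M.ok3 s.toSm v).vv
  obtain ⟨N, ζ, l, h⟩ := (mem_Q M.iv o).1 h
  rw [up_eq i] at h
  refine (sd6 s).cQ v0 (su_sem i) (M.inj ((M.ei ⟨g, i⟩ v).symm.trans (by rw [h, E_fix o l.vn]))) fun n j => ?_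
  obtain ⟨a, c, q⟩ := M.sa (hf σ (ι n) N)
  have := M.ei ⟨g, i⟩ n
  rw [h, E_ap l, M.ih, j, q] at this
  refine ⟨a, add_eq0.1 (M.ii (n' := c • v) (z := 0) fun u => ?_).1⟩
  simp only [M.ia, M.is, ← this, hf_add_l, hf_smul_l, map_zero]
  grind

variable (R : Ry ρ b y k)
include R

local notation "𝐁" => fun v n => (E σ (ι v) (ω • ι n) 0, b v n)
local notation "𝐘" => fun v => (E σ (ι v) r ω, y v)
local notation "𝐉" => JC (e.prod ρ) 𝐁 𝐘 k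

theorem f16 (h : hf 1 n v = 0) (h' : hf 1 n' v = 0) (ζ a c : F) : ∃ ζ', Ok σ (ι v) (ι n + ω • ι n' + (f a + ω * f c) • r) ζ' ∧
    (ev (e.prod ρ) v n ζ * 𝐁 v n' * 𝐘 (a • v) * zv (e.prod ρ) 𝐁 𝐘 k (c • v)).1 = E σ (ι v) (ι n + ω • ι n' + (f a + ω * f c) • r) ζ' := by
  obtain ⟨ζ', o, l⟩ := M.nf s.toSm h h' ζ a c
  refine ⟨ζ', o, ?_⟩
  rw [← l, zv, dif_pos (ad6 s _), ← M.zz s.toSm (ad6 s (c • v)).choose_spec, ← M.eE s.toSm h]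
  simp [Dq.zz, up_prod]

theorem nf'6 (i : p ∈ 𝐉 v) : ∃ (n : Fin m → F) (ζ : F) (n' : Fin m → F) (a c : F) (ζ' : A), hf 1 n v = 0 ∧ hf 1 n' v = 0 ∧
    p = ev (e.prod ρ) v n ζ * 𝐁 v n' * 𝐘 (a • v) * zv (e.prod ρ) 𝐁 𝐘 k (c • v) ∧
    Ok σ (ι v) (ι n + ω • ι n' + (f a + ω * f c) • r) ζ' ∧ p.1 = E σ (ι v) (ι n + ω • ι n' + (f a + ω * f c) • r) ζ' := by
  obtain ⟨n, ζ, n', a, c, h, h', rfl⟩ := ((M.ry s.toSm).prod R).nf6 s i
  obtain ⟨ζ', o, l⟩ := M.f16 s R h h' ζ a c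
  exact ⟨n, ζ, n', a, c, ζ', h, h', rfl, o, l⟩

theorem fQ6 (i : p ∈ 𝐉 v) : p.1 ∈ Q σ (ι v) := by
  obtain ⟨_, _, _, _, _, _, -, -, -, -, l⟩ := M.nf'6 s R i
  exact l ▸ E_Q _ _ _

theorem jr6 : Jr σ f ω ι (e.prod ρ) 𝐉 := by
  have t := s.toSm
  have R' := (M.ry t).prod R
  have nu : ∀ g ∈ SU 1 m, ∀ v, g v = v → up (e.prod ρ) g ∈ 𝐍(𝐉 v) := fun g i v h => cj_eq_self_iff.1 (by rw [R'.nr6 s i, h])
  refine ⟨M.iv, M.ia, M.is, M.ih, M.oi, fun x => ?_, fun n => ?_, M.es, M.ei, fun g x h => ?_, fun v _ g i => up_coe (φ := e.prod ρ) g ▸ qJ i,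
    fun g v => up_coe (φ := e.prod ρ) g ▸ R'.nr6 s g.2 v, fun v _ => le_antisymm ?_ ?_, fun v v0 p i h => ?_, fun v v0 w w0 o p i h => ?_,
    fun v v0 w w0 o p i h => ?_, fun c c0 v => R'.ns6 s c0 v⟩
  · obtain ⟨x₀, x₁, z, rfl⟩ := M.sp x
    exact ⟨x₀, x₁, _, fun u => by simp [M.ri], rfl⟩
  · obtain ⟨a, h⟩ := M.fx (hf_sym M.iv n n)
    exact ⟨ω * f a, by rw [h, map_mul, M.so, M.sf]; grind⟩
  · obtain ⟨z, rfl⟩ := M.perp h
    exact ((M.es g).smul1 z r).trans (by rw [M.er])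
  · rintro _ ⟨p, i, rfl⟩
    exact M.fQ6 s R i
  · intro q i
    obtain ⟨N, ζ, o, rfl⟩ := (mem_Q M.iv (M.ok3 t v).vv).1 i
    obtain ⟨n, n', z, rfl⟩ := M.sp N
    obtain ⟨a, c, rfl⟩ := M.sa z
    obtain ⟨h, h'⟩ := M.hn o.vn
    obtain ⟨ζ', o', l⟩ := M.f16 s R h h' 0 a c
    obtain ⟨d, j⟩ := M.fx (z := ζ + ζ') (by have := o.tr; have := o'.tr; rw [map_add]; grind)
    refine ⟨_, mul_mem (mul_mem (mul_mem (mul_mem (eJ v n 0) (bJ h')) (yJ a v)) (zJ c v)) (eJ v 0 d), ?_⟩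
    rw [MonoidHom.coe_fst, Prod.fst_mul, l, ev, up_prod, ← ev, M.eE t (hf_zero_l _), E_mul o' (M.ok1 t (hf_zero_l _) d), M.z0, ← j]
    congr 1 <;> simp [add_comm ζ, ← add_assoc, CharTwo.add_self_eq_zero]
  · obtain ⟨n, ζ, n', a, c, ζ', h₁, h₂, rfl, o, l⟩ := M.nf'6 s R i
    obtain ⟨v', q⟩ := t.partner v0
    have q' := (hf_comm v v').trans q
    rw [h] at l
    have key : ∀ x, hf σ x (ι v) = 0 → hf σ x (ι n + ω • ι n' + (f a + ω * f c) • r) = 0 := fun x i => M.um q' (by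
      simpa only [E_ap o, i, zero_smul, add_zero, mul_zero, Perm.one_apply, left_eq_add] using congrArg (· x) l)
    obtain ⟨rfl, rfl⟩ := M.hr (key r (M.ri v))
    obtain ⟨c, rfl⟩ := t.perp_perp1 (x := n') (v := v) fun u j => (M.hn (key (ι u) (by simp [M.ih, j]))).2
    simp only [zero_smul, C5.z0 t R'.toRb, R'.zero, R'.self, mul_one, C3.um t (E_sem ..) (E_sem ..)] at h ⊢
    rw [up_prod, up_eq (t.mem_SU ((E_sem ..).mul1 (E_sem ..)))] at h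
    rw [show E 1 v n ζ * E 1 v 0 c = 1 from Equiv.ext fun u => M.inj ((M.ei ⟨_, _⟩ u).symm.trans (congrArg (· (ι u)) h)), up_one, Prod.snd_one]
  · obtain ⟨n, ζ, n', a, c, ζ', h₁, h₂, rfl, o', l⟩ := M.nf'6 s R i
    obtain ⟨w', q⟩ := t.partner w0
    rw [l] at h
    rw [E_ap o', M.ih, o, map_zero, zero_smul, add_zero, mul_zero, add_zero, add_eq_left] at h
    obtain ⟨j, j'⟩ := M.hn (M.um ((hf_comm w w').trans q) h)
    exact mul_mem (mul_mem (mul_mem (nu _ (t.E_SU _ _ _) _ (E_fix o (hf_sw j) _)) (R'.nb6 s (hf_sw o) j' h₂))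
      (R'.ny6 s (by simp [hf_sw o]))) (R'.nz6 s (by simp [hf_sw o]))
  · by_cases w1 : w ∈ Submodule.span F {v}
    · obtain ⟨c, rfl⟩ := Submodule.mem_span_singleton.1 w1
      rwa [R'.ns6 s (by rintro rfl; simp at w0)] at i
    obtain ⟨n, ζ, n', a, c, ζ', h₁, h₂, q, o', l⟩ := M.nf'6 s R i
    obtain ⟨N, ζ₁, o₁, l₁⟩ := (mem_Q M.iv (M.ok3 t v).vv).1 h
    obtain ⟨w', e₁, e₂⟩ := C3.p1 t w1
    have key : ∀ x, hf σ x (ι v) = 0 → hf σ x (ι w) = 0 → hf σ x (ι n + ω • ι n' + (f a + ω * f c) • r) = 0 := fun x i j => by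
      simpa [E_ap o', E_ap o₁, i, j, M.ih, hf_comm w w', hf_comm v w', e₁, e₂] using congrArg (fun g => hf σ (g x) (ι w')) (l.symm.trans l₁)
    obtain ⟨rfl, rfl⟩ := M.hr (key r (M.ri v) (M.ri w))
    have k2 : ∀ u, hf 1 u v = 0 → hf 1 u w = 0 → _ := fun u i j => M.hn (key (ι u) (by simp [M.ih, i]) (by simp [M.ih, j]))
    obtain ⟨α, β, rfl⟩ := Submodule.mem_span_pair.1 (t.mem_of_pp (T := Submodule.span F {v, w}) (x := n') fun u j =>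
      (k2 u (j v (Submodule.subset_span (by simp))) (j w (Submodule.subset_span (by simp)))).2)
    have j := (k2 v (t.iso v) o).1
    have i₁ := t.E_SU w n ζ
    have i₂ : E 1 v (α • w) 0 * E 1 w 0 β ∈ SU 1 m := mul_mem (t.E_SU _ _ _) (t.E_SU _ _ _)
    have i₃ := (mem_normalizer_iff.1 (nu _ i₁ _ (E_fix o (hf_sw j) _)) _).1 (bJ (b := 𝐁) (y := 𝐘) (n := α • w) (by simp [hf_sw o]))
    simp only [zero_smul, R'.zero] at q
    rw [spl t R'.toRb o q i₁] at h ⊢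
    refine mul_mem i₃ (qJ (M.eQ6 s v0 (mul_mem i₁ i₂) ?_))
    simpa [up_prod] using (mul_mem_cancel_left (M.fQ6 s R i₃)).1 h

theorem gj6 : GJ 𝐉 = ρ.range ⊔ closure (Set.range y) := by
  have t := s.toSm
  refine le_antisymm ((closure_le _).2 ?_) (sup_le ?_ ((closure_le _).2 ?_))
  · rintro _ ⟨v, -, p, i, rfl⟩
    refine (sup_le ?_ ((closure_le _).2 ?_) : _ ≤ comap (MonoidHom.snd _ _) (ρ.range ⊔ closure (Set.range y))) (((M.ry t).prod R).le6 s v i)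
    · rintro _ ⟨g, rfl⟩
      exact mem_sup_left ⟨g, rfl⟩
    · rintro _ ⟨v, rfl⟩
      exact mem_sup_right (subset_closure ⟨v, rfl⟩)
  · rintro _ ⟨g, rfl⟩
    obtain ⟨g', i, j⟩ := SU_iso iv1 (H := ((GJ 𝐉).comap ρ).map (SU 1 m).subtype) (fun v a _ _ => ⟨⟨_, tv_SU v a⟩, by
      by_cases v0 : v = 0
      · simp [v0, E_zero_v, show ∀ h, (⟨1, h⟩ : SU (1 : F ≃+* F) m) = 1 from fun _ => rfl]
      · exact subset_closure ⟨v, v0, _, eJ v 0 a, by rw [ev, up_eq (tv_SU v a)]; rfl⟩, rfl⟩) g.2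
    exact Subtype.ext j ▸ i
  · rintro _ ⟨v, rfl⟩
    by_cases v0 : v = 0
    · simp [v0, R.zero]
    · exact subset_closure ⟨v, v0, _, yJ 1 v, by simp⟩

omit R in
theorem jt'6 (B : CB ρ t b k) (Y : Y0 ρ t y) (R : Ry ρ b y k) (N : 𝐂₁(t) ≤ 𝐍(ρ.range ⊔ closure (Set.range y))) :
    ∃ ε J, Jt ρ t σ σ f ω ι ε J := by
  have l := s.toSm
  have c := Sq.cw_sem (m := m') (σ := σ) (θ := σ) fun _ => rfl
  have ti : t⁻¹ = t := inv_eq_of_mul_eq_one_right B.t2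
  have sw : ∀ x d : G, x * t * x⁻¹ = t * d → d * x = x * d → t * x * t⁻¹ = x * d := fun x d i j => by
    rw [ti, mul_assoc, mul_inv_eq_iff_eq_mul.1 i, ← mul_assoc, ← mul_assoc, B.t2, one_mul, j]
  refine ⟨_, _, M.jr6 s R, fun _ => rfl, M.i0, fun _ => rfl, fun v _ => ((M.ry l).prod R).nt6 s (fun g => Prod.ext ?_ (B.cm _ ⟨g, rfl⟩).symm)
    (fun u v h => ?_) (fun v => ?_) v, M.gj6 s R ▸ N, M.gj6 s R ▸ sup_le le_normalClosure ((closure_le _).2 ?_)⟩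
  · change cw σ * e g = e g * cw σ
    exact mul_inv_eq_iff_eq_mul.1 (M.ext (c.cj (M.es g)) (M.es g)
      (fun x => by rw [Perm.mul_apply, Perm.mul_apply, Perm.inv_eq_iff_eq.2 (M.ci x).symm, M.ei, M.ci])
      (by rw [Perm.mul_apply, Perm.mul_apply, Perm.inv_eq_iff_eq.2 M.cr.symm, M.er, M.cr]))
  · rw [ev, up_prod]
    refine Prod.ext ?_ (sw _ _ (B.tw u v h) (R.toRb.cm l (l.E_SU _ _ _) h (E_fix (l.iso u) h _) (E_fix (hf_sw h) (l.iso v) _)))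
    simp only [Prod.fst_mul, Prod.fst_inv]
    rw [E_cj c, c.smul, M.ci, M.ci, M.so, ← ev, M.eE l (hf_sw h), E_mul (M.ok2 l (hf_sw h)) (M.ok1 l (hf_sw h) 0)]
    simp [add_smul, M.ih, l.iso]
  · rw [tv, up_prod]
    refine Prod.ext ?_ (sw _ _ (Y.tw v) (conj_eq_iff.1 (by rw [Y.ye _ (tv_SU _ _), E_fix (l.iso v) (hf_zero_r _)])))
    simp only [Prod.fst_mul, Prod.fst_inv]
    rw [E_cj c, M.ci, M.cr, M.so, ← tv, M.eT l, E_mul (M.ok3 l v) (M.ok1 l (hf_zero_l _) 1)]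
    simp [M.z0]
  · rintro _ ⟨v, rfl⟩
    exact R.ncl6 s v

end Mc

end CF.Dq

namespace CF.Y6

open Subgroup Equiv CF.Loc CF.LX CF.Ud CF.Dq
open CF.Sq (ev sg Jt)

variable {F : Type} [Field F] [Fintype F] [CharP F 2] {m : ℕ} {k : F} {G : Type*} [Group G] [Finite G] {t : G}
  {b : (Fin m → F) → (Fin m → F) → G}

theorem typeC6 {σ : F ≃+* F} {x : G} {ρ : SU σ m →* G} {γ : (Fin m → F) → G} (d : Sq.Sd σ m) (B : Sq.Bd ρ t b γ k 1)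
    (ind : ∀ h ∈ 𝐂₁(t), ∃ θ ξ, Sem σ θ ξ ∧ Ind ρ h ξ) (i : x ∈ 𝐂(im ρ (Y σ (bv 0))))
    (e : x * t * x⁻¹ = t * tv ρ (bv 0) 1) :
    ∃ (ι : (Fin m → F) → Fin (m + 1) → KK k) (ε : _) (J : _),
      Jt ρ t (sg k 1 (one_mul 1)) (sg k 1 (one_mul 1)) (algebraMap F (KK k)) (om k) ι ε J ∧
      (∀ i : Fin (m + 1), i.rev ≠ i → ∃ v, ι v = bv i.val) ∧
      ∀ e, (∀ u, hf (sg k 1 (one_mul 1)) e (ι u) = 0) → ∃ z : KK k, hf (sg k 1 (one_mul 1)) e e = z * sg k 1 (one_mul 1) z ∧ (z = 0 → e = 0) := by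
  obtain rfl := d.one
  have s : Sy6 F m := ⟨d.sm, d.hm⟩
  have C : CB ρ t b k := ⟨B.toC0, ⟨B.eqv, fun v c => by simpa using B.self v c, fun u v h => by simpa using B.sym u v h, B.adj,
    fun v n n' h h' => by
      obtain ⟨c, q⟩ := S1.rt (hf 1 n n')
      rw [B.mul v n n' c h h' q, B.w1 rfl, one_mul, q]⟩, fun h i => let ⟨θ, ξ, a, b⟩ := ind h i; ⟨ξ, ⟨θ, a⟩, b⟩, B.tw⟩
  obtain ⟨y, Y, R⟩ := C.ry6 s i e
  obtain ⟨ι, r, ε, M⟩ := ex_mc s.toSm k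
  have : Finite (KK k) := Finite.of_equiv _ (QuadraticAlgebra.equivProd k 1).symm
  obtain ⟨ε, J, j⟩ := M.jt'6 s C Y R (C.nor6 s Y R)
  refine ⟨ι, ε, J, j, M.rb, fun e h => ?_⟩
  obtain ⟨z, rfl⟩ := M.perp h
  exact ⟨z, by simp [M.rr, mul_comm], fun h => by simp [h]⟩

end CF.Y6
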