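import Cfsg.Agent.Sq.A2

/-! Standard subgroups `Sp₆(2)`: the interfaces. -/

set_option autoImplicit false

namespace CF.Y6

open Cfsg CF.Ud

/-- the prime field -/
abbrev F2 : Type := ZMod 2

/-- the group `Sp₆(2)` -/
abbrev S6 : Subgroup (Equiv.Perm (Fin 6 → F2)) := SU (1 : F2 ≃+* F2) 6

/-- no conjugate of `t` lies in the standard subgroup -/
def ND {K : Type} [Field K] [CharP K 2] {m : ℕ} {σ : K ≃+* K} {G : Type*} [Group G] (ρ : SU σ m →* G) (t : G) : Prop :=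
  ∀ g, IsConj t g → g ∉ ρ.range

/-- the simple overgroups -/
def P6 (F : Type*) [Group F] : Prop :=
  Nonempty (F ≃* Matrix.ProjectiveSpecialLinearGroup (Fin 6) F2) ∨ Nonempty (F ≃* Matrix.ProjectiveSpecialLinearGroup (Fin 7) F2) ∨
    (∃ (K : Type) (_ : Field K) (_ : Fintype K), Fintype.card K = 4 ∧
      (Nonempty (F ≃* PSU 6 K 2) ∨ Nonempty (F ≃* PSU 7 K 2) ∨ Nonempty (F ≃* PSp 3 K))) ∨
    Nonempty (F ≃* POmega F2 (quadFormPlus 4 F2)) ∨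
    ∃ a b : F2, (∀ z₁ z₂ : F2, z₁ ^ 2 + a * z₁ * z₂ + b * z₂ ^ 2 = 0 → z₁ = 0 ∧ z₂ = 0) ∧
      Nonempty (F ≃* POmega F2 (quadFormMinus 3 F2 a b))

theorem d6 : Sq.Sd (1 : F2 ≃+* F2) 6 := ⟨fun _ => rfl, by decide, le_rfl⟩

theorem q2 : Nat.card F2 = 2 := Nat.card_zmod 2

end CF.Y6
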