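import Cfsg.Agent.Sq.N1
import Cfsg.Agent.Y6.A

/-! The multiplication rule of the doubled elements, without the restriction on the parameters. -/

set_option autoImplicit false
set_option linter.unusedSectionVars false
set_option linter.unusedVariables false

namespace CF.Y6

open Cfsg Subgroup Equiv CF.Loc CF.LX CF.Ud CF.Sq Module TI
open scoped commutatorElement

variable {K : Type} [Field K] [Fintype K] [CharP K 2] {m : ℕ} {σ θ : K ≃+* K} {a b c r μ ζ a₁ a₂ a₃ b₁ b₂ b₃ : K}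
  {g : Perm (Fin m → K)} {X : Type*} [Group X] [Finite X] {ρ : SU σ m →* X} {s : X} {u v w n p y u' v' n' : Fin m → K}
  {β β' : (Fin m → K) → (Fin m → K) → X} {ω : (Fin m → K) → X} {τ : TI σ m}

theorem N.vl (d : Sd σ m) (f : Bt ρ s β μ) (k : W0 ρ β ω) (e : hf σ u v = 0) : Vl ρ s u v ((1 + μ) • v) (Pw ω u v) := by
  obtain ⟨τ, u, v, rfl, rfl⟩ := d.ti2 e
  have h := ((k.tw d f u v v (u + v) fun g i a b _ => by simp [(su_sem i).add, a, b]).mul (k.tw d f u v v u fun _ _ a _ _ => a)).mul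
    (k.tw d f u v v v fun _ _ _ a _ => a)
  refine ⟨fun y j0 => ?_, h.conj.trans ?_⟩
  · obtain ⟨g, j, j', rfl⟩ := mem_im.1 j0
    exact (h.cg g j' j.1.2 j.2.2 j.2.2).eq.symm
  · rw [ev_eq']; congr 2; simp only [qd_add]; clear * -; match_scalars <;> grind

theorem N.wb (d : Sd σ m) (f : Bt ρ s β μ) (k : W0 ρ β ω) (e : hf σ u n = 0) : Commute (ω u) (β u n) := by
  obtain ⟨p, p', ⟨a, b⟩, ⟨a', b'⟩, o⟩ := d.exB u n
  have := k.F u p p' 1 a a' (by simp [o])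
  rw [one_smul] at this
  rw [← this]
  exact ((f.bc d (d.sw a) e b).mul_left (f.bc d (d.sw a') e b')).mul_left (f.bc d (by simp [d.sw a, d.sw a']) e (by simp [b, b']))

theorem N.cm2 (d : Sd σ m) (f : Bt ρ s β μ) (k : W0 ρ β ω) (h : Cm ρ β ω a₁ a₂ a₃ b₁ b₂ b₃) : Cm ρ β ω 0 0 0 b₁ 0 0 := by
  obtain ⟨τ, v, n, u, l⟩ := d.ex3
  have h1 := h _ _ _ _ (L3.rot l).swap
  rw [f.sym _ _ (TI.pp v n), ev_eq', conj_mul_conj, h _ _ _ _ l, conj_eq_iff.2 (k.cw d f ..).symm, mul_assoc, mul_assoc, wl_mul, wl_mul,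
    mul_right_inj] at h1
  have h0 := c6 l (a₁ := a₁ + a₂) (a₂ := a₁ + a₂) (a₃ := 0) (b₁ := 0) (b₂ := b₂ + b₃) (b₃ := b₂ + b₃) (by
    rw [← wz f.ker h1, sy_comm n v]; clear * -; match_scalars <;> grind)
  have h2 := h _ v (n + v) u (li3.2 fun a b c e => by have := li3.1 l (a + b) b c (by rw [← e]; simp; module); clear * - this; grind)
  have h3 := f.self v 1
  rw [one_smul, tv_eq] at h3
  rw [Submodule.coe_add, f.add _ _ _ (TI.pp _ _) (TI.pp _ _) (TI.pp _ _), conj_mul_conj, h _ _ _ _ l, h3,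
    conj_eq_iff.2 (k.cw d f ..).symm, mul_assoc, mul_assoc, wl_mul, wl_mul, mul_right_inj] at h2
  have h4 := c6 l (a₁ := a₂) (a₂ := 0) (a₃ := 0) (b₁ := a₂) (b₂ := b₃) (b₃ := 0) (by
    rw [← wz f.ker h2]; simp only [qd_add, sy_add_l, sy_add_r, sy_self, sy_comm n v]; clear * -; match_scalars <;> grind)
  obtain rfl : a₂ = 0 := h4.1
  obtain rfl : b₃ = 0 := h4.2.2.2.2.1
  obtain rfl : a₁ = 0 := by simpa using h0.1
  obtain rfl : b₂ = 0 := by simpa using h0.2.2.2.2.1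
  obtain rfl : a₃ = 0 := by
    have h5 := h _ v n (v + u) (li3.2 fun a b c e => by have := li3.1 l (a + c) b c (by rw [← e]; simp; module); clear * - this; grind)
    have h6 : Pw ω v u * β v n * (Pw ω v u)⁻¹ = β v n * wl ρ (a₃ • qd v + a₃ • sy v u) := by
      rw [Pw, show ∀ a b c x : X, a * b * c * x * (a * b * c)⁻¹ = a * (b * (c * x * c⁻¹) * b⁻¹) * a⁻¹ from fun _ _ _ _ => by group,
        h _ _ _ _ l, conj_mul_conj (ω v), conj_eq_iff.2 (N.wb d f k (TI.pp v n)).eq, conj_eq_iff.2 (k.cw d f ..).symm, conj_mul_conj,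
        ← Submodule.coe_add, h5, conj_eq_iff.2 (k.cw d f ..).symm, mul_assoc, wl_mul]
      congr 2; simp only [qd_add]; clear * -; match_scalars <;> grind
    have c1 : Commute (β v ((1 + μ) • u.1)) (β v n) := f.bc d (by simp [TI.pp]) (TI.pp _ _) (by simp [TI.pp])
    obtain ⟨a, b, c, e | e⟩ := Vl.diff d f.toC0 l.p13 ((f.vl d (by simp [TI.pp])).mono
      (Yy_le (a := 1) (b := 0) (by simp) (a' := 0) (b' := 1 + μ) (by simp)) rfl) (N.vl d f k (TI.pp v u))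
    · rw [e, e3_eq, conj_eq_iff.2 (c1.mul_left (f.cw d ..)).eq, left_eq_mul, ← wl_zero (ρ := ρ) (τ := τ)] at h6
      exact (c3 (b := 0) l.p13.1 (by simpa using wl_inj f.ker h6)).1
    · rw [e, e3_eq, show ∀ a b c x : X, a * (b * c) * x * (a * (b * c))⁻¹ = a * (b * (c * x * c⁻¹) * b⁻¹) * a⁻¹ from fun _ _ _ _ => by group,
        conj_eq_iff.2 (f.cw d ..), (f.vl d (TI.pp v n)).sx f.toF0, mul_assoc _ s, (f.toF0.cw _).eq, ← mul_assoc (β v n), mul_inv_cancel_right,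
        conj_mul_conj, conj_eq_iff.2 c1.eq, ← Submodule.coe_smul, conj_eq_iff.2 (f.cw d ..).symm, mul_right_inj] at h6
      exact (c6 l (a₁ := a₃) (a₂ := 0) (a₃ := 0) (b₁ := 1) (b₂ := a₃) (b₃ := 0) (by
        rw [← wz f.ker h6]; clear * -; match_scalars <;> grind)).1
  exact h

theorem N.w1 (d : Sd σ m) (f : Bt ρ s β μ) : ∃ ω, W1 ρ β ω := by
  obtain ⟨ω, k⟩ := f.w0 d
  obtain ⟨_, _, _, r, _, _, h⟩ := k.cm0 d f
  have h := N.cm2 d f k h
  obtain rfl := k.cm5 d f h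
  have A : ∀ {u v n}, Pr σ u n → hf σ v u = 0 → hf σ v n = 0 → Commute (ω u) (β v n) := fun p e e' =>
    conj_eq_iff.1 (by simpa [ev] using k.cm3 d f h p e e')
  have wb : ∀ u v n, hf σ u v = 0 → hf σ u n = 0 → hf σ n v = 0 → Commute (ω u) (β v n) := fun u v n e₁ e₂ e₃ => by
    rcases d.pr_or e₂ with p | rfl | ⟨c, rfl⟩
    · exact A p (d.sw e₁) (d.sw e₃)
    · rw [k.z0 d f]; exact .one_left _
    rcases d.pr_or e₁ with p | rfl | ⟨c', rfl⟩
    · rw [f.sym _ _ e₃]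
      exact (A p (by simp [d.iso]) e₃).mul_right (k.cg d f (d.E_SU _ _ _) (E_fix (by simp [d.iso]) (by simp [e₁]) _))
    · rw [k.z0 d f]; exact .one_left _
    · rw [f.adj _ _ _ e₂, smul_smul, f.self]; exact k.ctv d f (d.iso u) _
  refine ⟨ω, k, fun v => ?_, wb, fun u v e => ?_⟩
  · by_cases v0 : v = 0
    · simp [v0, k.z0 d f]
    obtain ⟨n, n', ⟨e, -⟩, ⟨e', -⟩, o⟩ := d.exB v v
    simpa [ev] using k.cm4 d f h v0 e e' o
  obtain ⟨n, n', ⟨a, b⟩, ⟨a', b'⟩, o⟩ := d.exB u v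
  have := k.F v n n' 1 b b' (by simp [o])
  rw [one_smul] at this
  rw [← this]
  exact ((wb _ _ _ e (d.sw a) b).mul_right (wb _ _ _ e (d.sw a') b')).mul_right (wb _ _ _ e (by simp [d.sw a, d.sw a']) (by simp [b, b']))

theorem bd6 (d : Sd σ m) (f : Bt ρ s β μ) : ∃ γ k, Bd ρ s β γ k μ := by
  obtain ⟨ω, k⟩ := N.w1 d f
  obtain ⟨a, b, x, h, h1⟩ := k.pp d f
  obtain ⟨rfl, rfl⟩ := k.sy2 d f h
  have mm := (k.sy1 d f h).1
  set γ : (Fin m → K) → X := fun v => ω v * tv ρ v x with hγ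
  have tt : ∀ v, tv ρ v x * tv ρ v x = 1 := fun v => by simp [d.tvm, CharTwo.add_self_eq_zero, tv]
  have g0 : γ 0 = 1 := by simp [hγ, k.z0 d f, tv_0]
  have gg : ∀ u v, hf σ u v = 0 → Commute (γ u) (γ v) := fun u v e => by
    obtain ⟨τ, u, v, rfl, rfl⟩ := d.ti2 e
    exact ((k.ww _ _ e).mul_right (k.ctv d f e x)).mul_left ((k.ctv d f (d.sw e) x).symm.mul_right (by rw [tv_eq, tv_eq]; exact wl_cm ..))
  have g2 : ∀ v, γ v * γ v = 1 := fun v => by rw [← pow_two, (k.ctv d f (d.iso v) x).mul_pow, pow_two, pow_two, k.sq, tt, mul_one]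
  have P : ∀ u v, Pr σ u v → γ (u + v) * γ u * γ v = β u ((1 + μ) • v) := fun u v p => by
    have := h u v p
    obtain ⟨τ, u, v, rfl, rfl⟩ := d.ti2 p.2
    simp only [hγ]
    rw [← Submodule.coe_add, tv_eq, tv_eq, tv_eq, mul_assoc _ (wl ρ _), ← mul_assoc (wl ρ _), k.cw d f, mul_assoc (ω u), wl_mul,
      ← mul_assoc (ω _), mul_assoc _ (wl ρ _), ← mul_assoc (wl ρ _), k.cw d f, mul_assoc (ω v), wl_mul, ← mul_assoc, Submodule.coe_add,
      ← Pw, this, e3_eq, mul_assoc, wl_mul, mul_eq_left, ← wl_zero (ρ := ρ) (τ := τ)]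
    congr 1; simp only [qd_add]; clear * -; match_scalars <;> grind
  have S : ∀ u (a c : K), β (a • u) ((1 + μ) • c • u) = 1 := fun u a c => by
    rw [f.adj _ _ _ (by simp [d.iso]), smul_smul, smul_smul, f.self, show μ * (a * (1 + μ) * c) = 0 by clear * - mm; grind, tv, E_zero, up_one]
  have wp : ∀ u v, hf σ u v = 0 → γ (u + v) * γ u * γ v = β u ((1 + μ) • v) := fun u v e => by
    rcases d.pr_or e with p | rfl | ⟨c, rfl⟩
    · exact P u v p
    · simp [g0, g2, f.b0l d]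
    have S1 := S u 1 c
    rw [one_smul] at S1
    rw [S1]
    by_cases c0 : c = 0
    · simp [c0, g0, g2]
    by_cases c1 : c = 1
    · simp [c1, vv, g0, g2]
    by_cases u0 : u = 0
    · simp [u0, g0]
    obtain ⟨y, j, e₁, -⟩ := d.out2 u u
    have p : Pr σ u y := ⟨li_two u0 (by simpa using j), d.sw e₁⟩
    have h1 := P (u + y) (c • u + y) ⟨li2.2 fun a b e => by
      have := li2.1 p.1 (a + b * c) (a + b) (by rw [← e]; module); clear * - this c1; grind, by simp [d.iso, p.2, e₁]⟩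
    have S2 := S y 1 1
    rw [one_smul] at S2
    rw [add_add_add_comm, vv, add_zero, f.add1 d p.2 (by simp [d.iso, p.2]) (by simp [d.iso, e₁]), smul_add,
      f.add _ _ _ (by simp [d.iso]) (by simp [p.2]) (by simp [p.2]), f.add _ _ _ (by simp [e₁]) (by simp [d.iso]) (by simp [p.2]), S1, S2,
      f.sym ((1 + μ) • c • u) y (by simp [p.2]), ev, d.E_sm (by simp [e₁]), smul_smul (1 + μ) μ, mul_comm _ μ, mm, zero_smul, mul_zero, E_zero,
      up_one, one_mul, mul_one, mul_one, f.adj _ _ _ (by simp [p.2]), ← f.add1 d (by simp [d.iso]) (by simp [p.2]) (by simp [p.2])] at h1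
    rw [← cc9 (g2 (u + y)) (g2 (c • u + y)) (g2 y) (gg _ _ (by simp [d.iso, p.2, e₁])) (gg _ u (by simp [d.iso, e₁]))
      (gg _ _ (by simp [d.iso, p.2])) (gg _ _ (by simp [e₁])), h1, P _ _ p, P _ _ (p.sml c0), mul_assoc,
      ← f.add1 d (by simp [d.iso]) (by simp [p.2]) (by simp [p.2]), f.bb d (by simp [e₁])]
  refine ⟨γ, x, f, by clear * - mm; grind, fun v n n' c e e' o => ?_, fun g i v => ?_, fun v => ?_, wp, fun v a c => ?_,
    fun u v n e₁ e₂ e₃ => ((k.wb _ _ _ e₁ e₂ e₃).mul_left (f.ctv d (d.sw e₃) (d.sw e₁) (d.sw e₂) x).symm).eq, fun o v => by simp [hγ, h1 o, tt]⟩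
  · rw [k.mul d f e e' o, mul_comm x, ← d.tvs, mul_assoc (ω _), tt, mul_one,
      (k.wb _ _ _ (by simp [d.iso]) (by simp [d.sw e, d.sw e']) (by simp [e, e'])).eq]
  · rw [conj_mul_conj, k.we g i, tv_cj' i]
  · rw [← k.wt d f, mul_inv_rev, ← mul_assoc, mul_assoc (ω v), mul_assoc (ω v), conj_eq_iff.2 (f.cs _).symm.eq]
  · have := wp (a • v) (c • v) (by simp [d.iso])
    rw [S, mul_assoc, mul_eq_one_iff_inv_eq, inv_eq_of_mul_eq_one_right (g2 _), ← add_smul] at this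
    exact this.symm

end CF.Y6
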