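import Cfsg.Agent.Y6.U3
import Cfsg.Agent.Sq.E7

/-! Unitary groups in characteristic two including `U₆(2)`: the endgame data. -/

set_option autoImplicit false
set_option linter.unusedSectionVars false
set_option linter.unusedVariables false

namespace CF.Ud
open Cfsg Subgroup Equiv CF.Loc CF.LX CF.Dbl Module Sx
open scoped commutatorElement
variable {K : Type} [Field K] [Fintype K] [CharP K 2] {m q : ℕ} {σ θ : K ≃+* K} {a b a₀ : K}
  {g ξ α p w : Perm (Fin m → K)} {u v : Fin m → K} {A B P H O : Subgroup (Perm (Fin m → K))}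
  {G : Type*} [Group G] [Finite G] {ρ ρ₁ ρ₂ : SU σ m →* G} {t h x y : G} {F N S R J : Subgroup G}
namespace Tx
theorem lin6 (d : D6 σ q m) (k : Ker ρ) (n : h ∈ 𝐍(ρ.range)) (e : E2 h) (l : ∀ θ ξ, Sem σ θ ξ → Ind ρ h ξ → θ = 1) :
    ∃ g ∈ SU σ m, E2 g ∧ (up ρ g)⁻¹ * h ∈ 𝐂(ρ.range) ∧ E2 ((up ρ g)⁻¹ * h) := by
  obtain ⟨ψ, a, -, -⟩ := d.lift2 k (two_zp e) (zpowers_le.2 n)
  obtain ⟨⟨θ, s⟩, i⟩ := a ⟨h, mem_zpowers h⟩
  obtain rfl := l _ _ s i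
  have e2 : E2 (ψ ⟨h, mem_zpowers h⟩) := (e2_of ((two_zp e).to_subgroup ⊤) trivial).map ψ
  have j := d.two_SU s e2
  have c := (d.ind_cen k ⟨_, s.inv.mul s⟩ (((ind_up j).inv s).mul s i)).2 (by simpa using sc_one)
  exact ⟨_, j, e2, c, (e2.up j).inv.mul e (Commute.inv_left (i.cm j rfl).symm)⟩
end Tx
open Tx
end CF.Ud

namespace CF.Sq
open Cfsg Subgroup Equiv CF.Loc CF.LX CF.Ud CF.Geom Module QuadraticMap
open CF.Dbl (El SL Emb)
open scoped commutatorElement Matrix MatrixGroups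
variable {K : Type} [Field K] [Fintype K] [CharP K 2] {m q j : ℕ} {σ θ θ' : K ≃+* K}
  {g ξ ξ' w : Perm (Fin m → K)} {H : Subgroup (Perm (Fin m → K))}
  {G X : Type*} [Group G] [Finite G] [Group X] [Finite X] {t h : G}
theorem isoU6 {ρ : SU σ m →* G} (d : D6 σ q m) (k : Ker ρ) (e : IsSimpleGroup ρ.range) : Nonempty (ρ.range ≃* PSU m K q) := by
  have k' : ρ.ker ≤ center _ := fun g i => d.center_iff.2 (k g g.2 ((up_coe g).trans i))
  obtain ⟨-, -, f, -⟩ := d.bridge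
  exact (iso_quot ρ k' (nab_of ρ k' d.qs) e).map fun c => c.trans (CF.Classical.quotientCenterEquiv f)
end CF.Sq

namespace CF.Sq
open Subgroup Equiv Module CF.BG CF.Sig CF.GW CF.Ab2 CF.Rd
open CF.Ud hiding Cl Iv Fe e2_of JJ
open scoped commutatorElement
variable {K : Type} [Field K] [Fintype K] [CharP K 2] {m q : ℕ} {σ θ : K ≃+* K}
theorem _root_.CF.Ud.D6.QQ_gen (d : D6 σ q m) {H : Subgroup (Perm (Fin m → K))} {u v : Fin m → K} (uu : hf σ u u = 0)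
    (vv' : hf σ v v = 0) (e : hf σ u v ≠ 0) (l : Q σ u ≤ H) (l' : Q σ v ≤ H) : SU σ m ≤ H := by
  have sm : ∀ (v : Fin m → K) (c : K), hf σ v v = 0 → c ≠ 0 → Q σ (c • v) ≤ Q σ v := fun v c a c0 _ i => by
    obtain ⟨n, ζ, o, rfl⟩ := (mem_Q d.iv (by simp [a])).1 i
    have := o.nv
    rw [hf_smul_r, mul_eq_zero, map_eq_zero] at this
    rw [E_smul o a (this.resolve_left c0)]; exact E_Q _ _ _
  have mv : ∀ u v y : Fin m → K, hf σ u u = 0 → hf σ v v = 0 → hf σ y y = 0 → hf σ v u ≠ 0 → hf σ y u ≠ 0 → Q σ u ≤ H →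
      Q σ v ≤ H → Q σ y ≤ H := fun u v y a b c e f l l' => by
    obtain ⟨o, k⟩ := d.Q_move (x := (hf σ y u)⁻¹ • y) (y := (hf σ v u)⁻¹ • v) a (by simp [b]) (by simp [c]) (by simp [e]) (by simp [f])
    have := sm ((hf σ y u)⁻¹ • y) _ (by simp [c]) f
    rw [smul_inv_smul₀ f] at this
    refine this.trans (k ▸ (closure_le _).2 fun _ ⟨n, ζ, j⟩ => ?_)
    obtain ⟨n, rfl⟩ := (E σ u ((hf σ y u)⁻¹ • y + (hf σ v u)⁻¹ • v) (hf σ ((hf σ v u)⁻¹ • v) ((hf σ y u)⁻¹ • y))).surjective n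
    rw [j, ← E_cj1 (E_sem _ _ _)]
    exact cmem (l (E_Q _ _ _)) (l' (sm v _ b (inv_ne_zero e) (E_Q _ _ _)))
  have e' : hf σ v u ≠ 0 := fun z => e (d.sw z)
  have u0 : u ≠ 0 := fun z => e (by simp [z])
  refine SU_iso d.iv fun y a yy f => ?_
  by_cases z : hf σ y u = 0
  swap
  · exact mv u v y uu vv' yy e' z l l' (E_Q _ _ _)
  by_cases k : y ∈ Submodule.span K {u}
  · obtain ⟨c, rfl⟩ := Submodule.mem_span_singleton.1 k
    rw [tv_smul d.iv uu f]; exact l (E_Q _ _ _)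
  obtain ⟨n, nn, j⟩ := d.dual_iso (li_two u0 k) (fun i j => by
    fin_cases i <;> fin_cases j <;> simp [uu, yy, z, d.sw z]) ![1, 1]
  have j0 : hf σ u n = 1 := j 0
  have j1 : hf σ y n = 1 := j 1
  exact mv n u y nn uu yy (j0 ▸ one_ne_zero) (j1 ▸ one_ne_zero)
    (mv u v n uu vv' nn e' (fun z => one_ne_zero (j0.symm.trans (d.sw z))) l l') l (E_Q _ _ _)
theorem _root_.CF.Ud.D6.gm (d : D6 σ q m) : Gm σ m := by
  refine ⟨d.iv, d.hm, d.su_perf, d.U_syl, d.E_SU, fun _ => d.nrm, fun _ _ => d.ok, fun _ _ => d.part, fun _ _ => d.witt1,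
    fun _ _ _ _ p p' => d.witt2 p.li p'.li (p.uu.trans p'.uu.symm) (p.vv.trans p'.vv.symm) ((d.sw p.vu).trans (d.sw p'.vu).symm),
    fun _ _ _ c h => d.iso_val h c, fun u w v z a b c e => ?_, fun H => d.Y_gen d.b00 d.b0, fun H => d.Q_le_of d.b00,
    fun p => d.mem_Q_of d.b00 d.b0, d.Q_le, fun H u v => d.QQ_gen, fun y i => ?_, fun y i _ => ?_, fun y i => ?_,
    fun n ζ u v o p e => ?_, fun a => ?_⟩
  · obtain ⟨s, s', k1, -, k2, k3, k4, k5, -, k6, k7⟩ := d.hyp3 z a b c e 1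
    exact ⟨s, s', k1, k2, k3, k4, k5, k6, by rw [← d.sy, k7, map_one]⟩
  · obtain ⟨a, f, rfl⟩ := (mem_Z d.iv d.b00).1 i
    obtain ⟨n, n', -, -, -, -, -, -, e⟩ := d.tv_comm d.b00 f 0
    exact e ▸ commutator_mem_commutator (d.Q_le (E_Q _ _ _)) (d.Q_le (E_Q _ _ _))
  · obtain ⟨c, w, j, -, e⟩ := d.cQ0 d.b00 d.b0 (GU_le (SU_le i.1)) i.2
    obtain ⟨a, -, rfl⟩ := (mem_Z d.iv d.b00).1 j
    refine mem_cent.2 fun g k => Equiv.ext fun x => ?_
    have s := su_sem k.1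
    have := tv_cj1 s (bv 0) a
    rw [show g (bv 0) = bv 0 from k.2, mul_inv_eq_iff_eq_mul] at this
    rw [Perm.mul_apply, Perm.mul_apply, e, e, s.smul1, ← Perm.mul_apply, this, Perm.mul_apply]
  · obtain ⟨c, w, j, -, e⟩ := d.cQ0 d.b00 d.b0 (GU_le i.1.1) i.2
    exact d.sc_W (U_e0 i.1) (d.Q_Y (Z_le_Q j)).2 d.b0 e ▸ Z_le_Q j
  · have s := E_sq o
    rw [e, E_sq (ok_iso d.iv p.uu p.vv p.vu), p.vv, E_zero] at s
    have z : hf σ n n = 0 := by_contra fun z => d.tv_ne d.b00 d.b0 (d.sy n n) z s.symm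
    exact (d.trc (E_split o z).1).imp fun _ e => e.symm
  · obtain ⟨ω, e⟩ := d.om
    have t : ∀ b, b + σ b = 1 → ¬ Tc σ b := fun b f ⟨s, j⟩ => by
      rw [j, map_add, d.iv] at f; grind
    by_cases h : a = ω
    exacts [⟨ω + 1, by simp [h], t _ (by rw [map_add, map_one]; grind)⟩, ⟨ω, Ne.symm h, t _ e⟩]
theorem _root_.CF.Ud.D6.ad (d : D6 σ q m) : Ad (m := m) σ σ {E σ (bv 0) (bv 1) 0} :=
  ⟨fun _ => rfl, d.om, rfl, fun _ e => ⟨0, map_zero σ, map_zero σ, e⟩, fun _ _ o i k =>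
    ⟨_, rfl, d.gm.clS o ((d.trc (E_split o i).1).imp fun _ e => e.symm) k⟩⟩
end CF.Sq

namespace CF.Ud.D6
open Subgroup Equiv Module CF.Geom Matrix CF.Sq
variable {K : Type} [Field K] [Fintype K] [CharP K 2] {m q : ℕ} {σ : K ≃+* K} {α β g r x y : Perm (Fin m → K)}
  {ι κ : Type} [Fintype ι] [Fintype κ] [DecidableEq ι] [DecidableEq κ] {u u' : ι → Fin m → K} {v : κ → Fin m → K}
  {M : Matrix ι ι K} {N : Matrix κ κ K} {T : Submodule K (Fin m → K)} (d : D6 σ q m)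
include d
theorem nf_add (h : Nf σ α u M) (k : Nf σ α v N) (e : ∀ i, v i ∈ pp σ (Submodule.span K (Set.range u))) :
    Nf σ α (Sum.elim u v) (fromBlocks M 0 0 N) :=
  have o : ∀ i j, hf σ (v i) (u j) = 0 := fun i j => mem_pp_span.1 (e i) _ ⟨j, rfl⟩
  ⟨Sum.rec h.1 k.1, Sum.rec (fun i => Sum.rec (h.2 i) fun j => d.sw (o j i)) fun i => Sum.rec (o i) (k.2 i)⟩
theorem nf_T (i : Sem σ σ α) (e : α * α = 1) (h : Nf σ α u M) (n : M.det ≠ 0) : ∃ T : Submodule K (Fin m → K),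
    T = pp σ (Submodule.span K (Set.range u)) ∧ (∀ x ∈ T, α x ∈ T) ∧ T ⊓ pp σ T = ⊥ ∧ Fintype.card ι + finrank K T = m := by
  refine ⟨_, rfl, d.pp_inv i e (Set.forall_mem_range.2 h.1), eq_bot_iff.2 fun x a => ?_, ?_⟩
  · obtain ⟨a, b⟩ := a
    rw [d.pp_pp] at b
    obtain ⟨c, rfl⟩ := (Submodule.mem_span_range_iff_exists_fun K).1 b
    simp [h.nd n c fun j => mem_pp_span.1 a _ ⟨j, rfl⟩]
  · rw [← finrank_span_eq_card (h.li n)]; exact d.pp_dim _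
theorem nf_cj (i : Sem σ σ α) (j : Sem σ σ β) (h : Nf σ α u M) (k : Nf σ β u' M) (n : M.det ≠ 0) (c : Fintype.card ι = m) :
    ∃ r, Sem σ 1 r ∧ r * α * r⁻¹ = β := by
  obtain ⟨r, s, e⟩ := d.toFd.witt0 (h.li n) (k.li n) fun i j => by rw [h.2, k.2]
  replace s : Sem σ 1 r := s
  refine ⟨r, s, mul_inv_eq_iff_eq_mul.2 (Equiv.ext fun x => ?_)⟩
  obtain ⟨c, rfl⟩ := (Submodule.mem_span_range_iff_exists_fun K).1
    (((h.li n).span_eq_top_of_card_eq_finrank' (c.trans finrank_V.symm)).symm ▸ Submodule.mem_top (x := x))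
  simp [i.sum, j.sum, s.sum, i.smul, j.smul, s.smul1, h.1, e, k.1]
theorem cj_su (a : x ∈ SU σ m) (b : y ∈ SU σ m) (s : Sem σ 1 r) (e : r * (x * cw σ) * r⁻¹ = y * cw σ) : r ∈ SU σ m := by
  have c := cw_sem (m := m) (σ := σ) (θ := σ) fun _ => rfl
  have k : r * x = y * (cw σ * r * (cw σ)⁻¹) := by rw [← mul_assoc, ← mul_assoc, ← e]; group
  have := congrArg (dt σ) k
  rw [dt_mul s (su_sem a), dt_mul (su_sem b) (c.cj s), (d.mem_SU.1 a).2, (d.mem_SU.1 b).2, dt_cw s, mul_one, one_mul] at this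
  exact d.mem_SU.2 ⟨s, sq_inj (by rw [mul_one, ← d.dt_nrm s, ← this])⟩
section
variable (i : Sem σ σ α) (e : α * α = 1) (hT : ∀ x ∈ T, α x ∈ T) (n : T ⊓ pp σ T = ⊥)
include i e hT n
theorem nf_hyp (h : 3 ≤ finrank K T) : ∃ v : Fin 2 → Fin m → K, (∀ i, v i ∈ T) ∧ Nf σ α v !![0, 1; 1, 0] := by
  let H := Submodule.span K {x | x ∈ T ∧ α x = x ∧ hf σ x x = 0}
  have l : H ≤ T := Submodule.span_le.2 fun _ => And.left
  have h1 : finrank K T ≤ finrank K H + 1 := by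
    by_contra n
    obtain ⟨x, j, a, b⟩ := d.fix_iso (T' := H) i e hT (by omega)
    exact a (Submodule.subset_span ⟨j, b⟩)
  have h2 := Submodule.finrank_sup_add_finrank_inf_eq H (pp σ T)
  rw [eq_bot_iff.2 ((inf_le_inf_right _ l).trans n.le), finrank_bot] at h2
  obtain ⟨u, j, a, b, c⟩ := d.fix_iso (T' := pp σ (H ⊔ pp σ T)) i e hT (by
    have := d.pp_dim T; have := d.pp_dim (H ⊔ pp σ T); omega)
  obtain ⟨n, ⟨j', f, k⟩, l⟩ : ∃ n ∈ {x | x ∈ T ∧ α x = x ∧ hf σ x x = 0}, hf σ u n ≠ 0 := by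
    by_contra! z
    refine a fun y s => ?_
    obtain ⟨x, s1, y', s', rfl⟩ := Submodule.mem_sup.1 s
    change hf σ u _ = 0
    rw [hf_add_r, mem_pp.1 (mem_pp_span.2 z) x s1, d.sw (s' u j), add_zero]
  have := d.fix_sym i b f
  have h3 := (d.sy u n).symm.trans this
  exact ⟨![u, (hf σ u n)⁻¹ • n], by simp [Fin.forall_fin_two, j, T.smul_mem _ j'],
    by simp [Fin.forall_fin_two, b, i.smul, this, f], by simp [Fin.forall_fin_two, *]⟩
theorem nf_one (h : finrank K T = 1) : ∃ v : Fin 1 → Fin m → K, (∀ i, v i ∈ T) ∧ Nf σ α v 1 := by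
  obtain ⟨x, j, x0, a⟩ := d.fix_out (T' := ⊥) i e hT (by simp [h])
  have k : hf σ x x ≠ 0 := fun k => x0 (n ▸ ⟨j, fun y s => by
    obtain ⟨c, rfl⟩ := Submodule.mem_span_singleton.1 ((Submodule.eq_of_le_of_finrank_eq
      ((Submodule.span_singleton_le_iff_mem _ _).2 j) ((finrank_span_singleton x0).trans h.symm)).symm ▸ s)
    change hf σ x _ = 0
    rw [hf_smul_r, k, mul_zero]⟩)
  obtain ⟨c, f⟩ := exists_rt (hf σ x x)⁻¹
  have s := d.fix_rt (c := c) (by rw [f, map_inv₀, d.sy])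
  exact ⟨fun _ => c • x, fun _ => T.smul_mem _ j, fun _ => by rw [i.smul, s, a], fun a b => by
    rw [Subsingleton.elim a b, one_apply_eq, hf_smul_l, hf_smul_r, s, ← mul_assoc, f, inv_mul_cancel₀ k]⟩
theorem nf_two (h : finrank K T = 2) : ∃ s : K, (s = 0 ∨ s = 1) ∧ ∃ v : Fin 2 → Fin m → K, (∀ i, v i ∈ T) ∧ Nf σ α v !![0, 1; 1, s] := by
  obtain ⟨x, j, x0, a, b⟩ := d.fix_iso (T' := ⊥) i e hT (by simp [h])
  obtain ⟨y, j', k, a'⟩ := d.fix_out (T' := T ⊓ pp σ (Submodule.span K {x})) i e hT (Submodule.finrank_lt_finrank_of_lt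
    (inf_lt_left.2 fun l => x0 (n ▸ ⟨j, fun y s => d.sw (mem_perp_singleton.1 (l s))⟩)))
  have k : hf σ y x ≠ 0 := fun z => k ⟨j', mem_perp_singleton.2 z⟩
  have s := d.fix_sym i a' a
  have h3 := (d.sy y x).symm.trans s
  by_cases z : hf σ y y = 0
  · exact ⟨0, .inl rfl, ![x, (hf σ y x)⁻¹ • y], by simp [Fin.forall_fin_two, j, T.smul_mem _ j'],
      by simp [Fin.forall_fin_two, i.smul, *], by simp [Fin.forall_fin_two, *]⟩
  obtain ⟨c, f⟩ := exists_rt (hf σ y y)⁻¹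
  have s' := d.fix_rt (c := c) (by rw [f, map_inv₀, d.sy])
  have c0 : c ≠ 0 := fun e => z (by simpa [e] using f.symm)
  refine ⟨1, .inr rfl, ![(c * hf σ y x)⁻¹ • x, c • y], by simp [Fin.forall_fin_two, T.smul_mem _ j, T.smul_mem _ j'],
    by simp [Fin.forall_fin_two, i.smul, *], ?_⟩
  simp [Fin.forall_fin_two, ← mul_assoc, *]
  field_simp
end
theorem nf_peel (k : ℕ) (h : 2 * k < m) : ∃ (ι : Type) (_ : Fintype ι) (_ : DecidableEq ι) (M : Matrix ι ι K),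
    Fintype.card ι = 2 * k ∧ M.det ≠ 0 ∧ ∀ α, Sem σ σ α → α * α = 1 → ∃ u : ι → Fin m → K, Nf σ α u M := by
  induction k with
  | zero => exact ⟨Empty, inferInstance, inferInstance, 1, by simp, by simp, fun _ _ _ => ⟨Empty.elim, by simp, by simp⟩⟩
  | succ k ih =>
    obtain ⟨ι, _, _, M, c, n, f⟩ := ih (by omega)
    refine ⟨ι ⊕ Fin 2, inferInstance, inferInstance, fromBlocks M 0 0 !![0, 1; 1, 0], by simp [c]; ring, by simpa [det_fromBlocks_zero₂₁] using n, fun α i e => ?_⟩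
    obtain ⟨u, a⟩ := f α i e
    obtain ⟨T, rfl, h1, h2, h3⟩ := d.nf_T i e a n
    obtain ⟨v, j, b⟩ := d.nf_hyp i e h1 h2 (by omega)
    exact ⟨_, d.nf_add a b j⟩
end CF.Ud.D6
namespace CF.Sq
open Subgroup Equiv Module CF.Geom Matrix
open CF.Ud hiding Cl Iv Fe e2_of JJ
variable {K : Type} [Field K] [Fintype K] [CharP K 2] {m q : ℕ} {σ : K ≃+* K} {g : Perm (Fin m → K)}
theorem clsU6 (d : D6 σ q m) (i : g ∈ SU σ m) (e : g * cw σ * (g * cw σ) = 1) : ∃ r ∈ SU σ m, g * cw σ = r⁻¹ * cw σ * r ∨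
    (Even m ∧ g * cw σ = r⁻¹ * (E σ (bv 0) 0 1 * cw σ) * r) := by
  have hm := d.hm
  have c := cw_sem (m := m) (σ := σ) (θ := σ) fun _ => rfl
  have sm : ∀ x ∈ SU σ m, Sem σ σ (x * cw σ) := fun x j => by simpa using (su_sem j).mul c
  have c2 := cw_sq (m' := m) d.toFd
  have fin : ∀ y ∈ SU σ m, (∃ r, Sem σ 1 r ∧ r * (g * cw σ) * r⁻¹ = y * cw σ) → ∃ r ∈ SU σ m, g * cw σ = r⁻¹ * (y * cw σ) * r :=
    fun y j ⟨r, s, e⟩ => ⟨r, d.cj_su i j s e, by rw [← e]; group⟩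
  obtain ⟨ι, _, _, M, k, n, f⟩ := d.nf_peel ((m - 1) / 2) (by omega)
  rcases Nat.even_or_odd m with o | o
  · have key : ∀ α, Sem σ σ α → α * α = 1 → ∃ s : K, (s = 0 ∨ s = 1) ∧ ∃ u : ι ⊕ Fin 2 → Fin m → K,
        Nf σ α u (fromBlocks M 0 0 !![0, 1; 1, s]) := fun α i e => by
      obtain ⟨u, a⟩ := f α i e
      obtain ⟨T, rfl, h1, h2, h3⟩ := d.nf_T i e a n
      obtain ⟨s, l, v, j, b⟩ := d.nf_two i e h1 h2 (by obtain ⟨_, o⟩ := o; omega)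
      exact ⟨s, l, _, d.nf_add a b j⟩
    have n' : ∀ s : K, (fromBlocks M 0 0 !![0, 1; 1, s]).det ≠ 0 := fun s => by simpa [det_fromBlocks_zero₂₁] using n
    have cd : Fintype.card (ι ⊕ Fin 2) = m := by obtain ⟨_, o⟩ := o; simp [k]; omega
    obtain ⟨s0, -, u0, a0⟩ := key _ c c2
    obtain rfl : s0 = 0 := (a0.2 (.inr 1) (.inr 1)).symm.trans (cw_alt o (a0.1 _))
    have z := tv_SU (σ := σ) (bv 0 : Fin m → K) 1
    have z2 : E σ (bv 0 : Fin m → K) 0 1 * cw σ * (E σ (bv 0) 0 1 * cw σ) = 1 := by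
      have := tv_cj c (bv 0) 1
      rw [cw_bv, map_one, mul_inv_eq_iff_eq_mul] at this
      rw [mul_assoc, ← mul_assoc (cw σ), this, mul_assoc, c2, mul_one, tv_sq]
    obtain ⟨s1, rfl | rfl, u1, a1⟩ := key _ (sm _ z) z2
    · obtain ⟨r, s, e⟩ := d.nf_cj (sm _ z) c a1 a0 (n' _) cd
      obtain ⟨ω, h⟩ := d.om
      have : (E σ (bv 0) 0 1 * cw σ : Perm (Fin m → K)) (bv (m - 1) + ω • bv 0) = bv (m - 1) + ω • bv 0 := by
        rw [Perm.mul_apply, c.add, c.smul, cw_bv, cw_bv, E_ap (ok_tv d.iv d.b00 (map_one σ))]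
        simp only [hf_add_l, hf_smul_l, d.b00, d.bl0, mul_zero, add_zero, smul_zero, hf_zero_r, zero_add, one_mul, add_assoc, ← add_smul]
        rw [← h, add_comm ω, ← add_assoc, CharTwo.add_self_eq_zero, zero_add]
      have := cw_alt (σ := σ) (x := r (bv (m - 1) + ω • bv 0)) o (by rw [← e]; simpa using this)
      simp [s.form1, d.b00, d.bll, d.b0l, d.bl0, h] at this
    obtain ⟨s, rfl | rfl, u, a⟩ := key _ (sm g i) e
    · exact (fin 1 (one_mem _) (by simpa using d.nf_cj (sm g i) c a a0 (n' _) cd)).imp fun r h => ⟨h.1, .inl (by simpa using h.2)⟩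
    · exact (fin _ z (d.nf_cj (sm g i) (sm _ z) a a1 (n' _) cd)).imp fun r h => ⟨h.1, .inr ⟨o, h.2⟩⟩
  · have key : ∀ α, Sem σ σ α → α * α = 1 → ∃ u : ι ⊕ Fin 1 → Fin m → K, Nf σ α u (fromBlocks M 0 0 1) := fun α i e => by
      obtain ⟨u, a⟩ := f α i e
      obtain ⟨T, rfl, h1, h2, h3⟩ := d.nf_T i e a n
      obtain ⟨v, j, b⟩ := d.nf_one i e h1 h2 (by obtain ⟨_, o⟩ := o; omega)
      exact ⟨_, d.nf_add a b j⟩
    obtain ⟨u0, a0⟩ := key _ c c2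
    obtain ⟨u, a⟩ := key _ (sm g i) e
    exact (fin 1 (one_mem _) (by simpa using d.nf_cj (sm g i) c a a0 (by simpa [det_fromBlocks_zero₂₁] using n) (by
      obtain ⟨_, o⟩ := o; simp [k]; omega))).imp fun r h => ⟨h.1, .inl (by simpa using h.2)⟩
end CF.Sq

namespace CF.Sq
open Subgroup Equiv Module CF.BG CF.Sig CF.GW CF.Ab2 CF.Rd
open CF.Ud hiding Cl Iv Fe e2_of JJ
open CF.Dbl (El)
universe u
variable {K K' : Type} [Field K] [Fintype K] [CharP K 2] [Field K'] [Fintype K'] [CharP K' 2] {m m' q : ℕ} {σ : K ≃+* K}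
  {σ' : K' ≃+* K'} {g : Perm (Fin m → K)}
theorem ratU6 (d : D6 σ q m) (i : g ∈ SU σ m) (e : g * g = 1) : ∃ r ∈ SU σ m, r * g * r⁻¹ ∈ 𝐂₁ (cw σ : Perm (Fin m → K)) := by
  have t := Vf_ti (σ := σ) (m := m) le_rfl
  have c := cw_sem (m := m) (σ := σ) (θ := σ) fun _ => rfl
  obtain ⟨r, a, b⟩ := d.m3 (su_sem i) e
  obtain ⟨j, v, h1, h2, h3⟩ := d.W_dec t b
  have l : j ≤ m / 2 := by
    have := Submodule.finrank_mono (Submodule.span_le.2 (Set.range_subset_iff.2 h2))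
    rwa [finrank_span_eq_card h1, Fintype.card_fin, d.Vl_dim] at this
  obtain ⟨w, a', b'⟩ := W_mk d.iv t (fun i : Fin j => bv i.val) fun i => bv_mem (i.2.trans_le l)
  obtain ⟨k, s, f⟩ := d.rk_conj b.1 (W_sq t b) a'.1 (W_sq t a') (by rw [d.rk_of h1 1 h3, d.rk_of (li_bv (by omega)) 1 b'])
  refine ⟨k * r, mul_mem s a, mem_cent1.2 ?_⟩
  rw [show k * r * g * (k * r)⁻¹ = w by rw [← f]; group]
  refine Equiv.ext fun x => ?_
  simp only [Perm.mul_apply, b', c.add, c.sum, c.smul, ← c.form, cw_bv]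
theorem _root_.CF.Ud.D6.rq {G : Type*} [Group G] [Finite G] {ρ : SU σ m →* G} (d : D6 σ q m) (k : Ker ρ) : ∃ Θ, Rq ρ Θ := by
  obtain ⟨Θ, a⟩ := d.th k
  have s : ∀ g ∈ ρ.ker, Sc g.1 := fun g e => k _ g.2 ((up_eq g.2).trans e)
  refine ⟨Θ, ⟨fun g e => d.center_iff.2 (s g e), od_iff.2 (piGrp_of_forall_elt fun g e => eo_iff.1 (d.oddq.of_dvd_nat
    (orderOf_dvd_of_pow_eq_one (Subtype.ext (d.sc_odd (GU_le (SU_le g.2)) (s g e))))))⟩, fun h => ?_, a, fun o h p e => ?_⟩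
  · obtain ⟨ξ, ⟨θ, s⟩, i⟩ := d.ind_of k h.2
    exact ⟨ξ, (a h ξ θ s i).symm ▸ s, i⟩
  · obtain ⟨g, j, -, c, ⟨n, f⟩⟩ := Tx.lin6 d k h.2 ((PiNat.exists_pow p (orderOf_pos _).ne').imp fun _ e => by rw [← e]; exact pow_orderOf_eq_one _) fun θ ξ s i => (a h ξ θ s i).symm.trans e
    exact inv_mul_eq_one.1 (PiElt.eq_one ((piNat_pow_self p2 n).dvd (orderOf_dvd_of_pow_eq_one f)) (o.elt c)) ▸ up_range g
theorem _root_.CF.Ud.D6.mq (d : D6 σ q m) : Mq (m := m) σ σ q {E σ (bv 0) (bv 1) 0} (Even m) :=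
  ⟨d.gm, d.ad, d.toFd, fun _ => .inl, fun _ i => d.m3 (su_sem i), d.W_el (Vf_ti le_rfl), d.W_le, fun _ => clsU6 d, fun _ => ratU6 d⟩
theorem Sd.bigU6 (d : Sd σ m) (d' : D6 σ' (Nat.card K) m') (h : m' = m ∨ m' = m + 1) : 2 * ♯(WW σ m) < ♯(WW σ' m') := by
  have := d.hm
  obtain ⟨k, e⟩ := d.ev
  have h1 : m / 2 = k := by omega
  have h2 : m' / 2 = k := by omega
  have : 3 * k ≤ k * k := Nat.mul_le_mul_right _ (by omega)
  rw [d.card_W, d'.card_W, h1, h2, pow_two, mul_add]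
  exact two_pow_lt d'.two_le (by omega)
end CF.Sq

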