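import Cfsg.Agent.Dq.Z1
import Cfsg.Agent.Y6.A

/-! Standard subgroups `Sp₆(2)`: orthogonal overgroups. -/

set_option autoImplicit false

namespace CF.Y6

open Cfsg Subgroup Equiv CF.Loc CF.LX CF.Ud CF.Geom CF.Dq
open CF.Sq (ev Sd)

theorem typeD6 {K : Type} [Field K] [Fintype K] [CharP K 2] {m j : ℕ} {δ : K} {G : Type*} [Group G] [Finite G]
    {ρ : SU (1 : K ≃+* K) m →* G} {t x : G} {F : Subgroup G} (d : Sd (1 : K ≃+* K) m) (hm : m = 2 * j) (f : Fr ρ t) (r : R2 ρ t)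
    (ind : ∀ h ∈ 𝐂₁(t), ∃ θ ξ, Sem 1 θ ξ ∧ Ind ρ h ξ) (o : Top ρ F) (e : Dq.Xe ρ t x δ)
    (na : ¬ IsConj t (t * ev ρ (bv 0) (bv 1) 0)) (a1 : ND ρ t) :
    Nonempty (F ≃* POmega K (quadFormPlus (j + 1) K)) ∨ ∃ a b : K, (∀ z₁ z₂ : K, z₁ ^ 2 + a * z₁ * z₂ + b * z₂ ^ 2 = 0 → z₁ = 0 ∧ z₂ = 0) ∧
      Nonempty (F ≃* POmega K (quadFormMinus j K a b)) := by
  have k : TB ρ t := ⟨d.sm, f, r, fun h i => let ⟨θ, ξ, a, b⟩ := ind h i; ⟨ξ, ⟨θ, a⟩, b⟩⟩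
  obtain ⟨J, κ, p⟩ := TD.j1 ⟨k, na, x, δ, Z1.xd k e na⟩
  obtain ⟨ι, Φ, q⟩ := p.ph
  have := o.nor
  have l := (q.od a1).fin o.sim o.cen (q.le o.le)
  have φ : F ≃* _root_.commutator (OG (Qh m κ)) := (MulEquiv.subgroupCongr l.symm).trans (equivMapOfInjective _ Φ q.inj).symm
  rcases (d.sm.os κ).iso (k := j) (by simp [hm]) with ⟨⟨ψ⟩⟩ | ⟨a, b, c, ⟨ψ⟩⟩
  exacts [.inl ⟨φ.trans ψ⟩, .inr ⟨a, b, c, ⟨φ.trans ψ⟩⟩]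

end CF.Y6
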