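import Cfsg.Agent.Y6.A
import Cfsg.Agent.Y6.F0
import Cfsg.Agent.Sq.D1
import Cfsg.Agent.Sq.C2

/-! The two models of `Sp₆(2)`. -/

set_option autoImplicit false
set_option maxRecDepth 100000
set_option synthInstance.maxSize 4000

namespace CF.Y6

open Subgroup Equiv CF.Ud CF.Sq
open CF.Ft hiding tv

/-- the vector with the given code -/
def vk (v : ℕ) : Fin 6 → F2 := fun i => vc v (![.inl 0, .inl 1, .inl 2, .inr 2, .inr 1, .inr 0] i)

/-- the code of a vector -/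
def nk (x : Fin 6 → F2) : ℕ := nv (Sum.elim ![x 0, x 1, x 2] ![x 5, x 4, x 3])

variable {u v w : ℕ} {g : Sp} {x y : Fin 6 → F2}

theorem nk_lt (x : Fin 6 → F2) : nk x < 64 := nv_lt _
theorem vk_nk (x : Fin 6 → F2) : vk (nk x) = x := funext fun i => by rw [vk, nk, vc_nv]; fin_cases i <;> rfl
theorem nk_vk (h : v < 64) : nk (vk v) = v := by revert v; decide +kernel
theorem vk_xor (u v : ℕ) : vk (u ^^^ v) = vk u + vk v := funext fun i => by simp only [vk, vc_xor, Pi.add_apply]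
theorem vk_inj (a : u < 64) (b : v < 64) (e : vk u = vk v) : u = v := by rw [← nk_vk a, e, nk_vk b]
theorem nk_add (x y : Fin 6 → F2) : nk (x + y) = nk x ^^^ nk y :=
  vk_inj (nk_lt _) (xor_lt (nk_lt _) (nk_lt _)) (by rw [vk_xor, vk_nk, vk_nk, vk_nk])
theorem vk0 : vk 0 = 0 ∧ vk 1 = bv 0 ∧ vk 2 = bv 1 := by decide +kernel
theorem nk0 : nk 0 = 0 := by decide +kernel
theorem ex_vk (x : Fin 6 → F2) : ∃ v < 64, vk v = x := ⟨_, nk_lt x, vk_nk x⟩
theorem hf_vk (a : u < 64) (b : v < 64) : hf 1 (vk u) (vk v) = (fm u v : F2) := by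
  have : ∀ u < 64, ∀ v < 64, ∑ i, vk u i * vk v i.rev = (fm u v : F2) := by decide +kernel
  exact this u a v b
theorem hf_vk0 (a : u < 64) (b : v < 64) : hf 1 (vk u) (vk v) = 0 ↔ fm u v = 0 := by
  rw [hf_vk a b]
  exact ⟨fun e => cast_inj (fm_lt _ _) two_pos e, fun e => by rw [e]; rfl⟩
theorem c2 (c : F2) : c = 0 ∨ c = 1 := by revert c; decide
theorem vk_mul (a : u < 2) (v : ℕ) : vk (u * v) = (u : F2) • vk v := by interval_cases u <;> simp [vk0.1]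

/-- the action on vectors -/
def pm : Sp →* Perm (Fin 6 → F2) := MonoidHom.mk' (fun g => ⟨fun x => vk (ac g (nk x)), fun x => vk (ac g⁻¹ (nk x)),
    fun x => by simp only [nk_vk (ac_lt _ _), ac_inv g (nk_lt x), vk_nk], fun x => by simp only [nk_vk (ac_lt _ _), ac_inv' g (nk_lt x), vk_nk]⟩)
  fun g h => Equiv.ext fun x => by simp [nk_vk (ac_lt _ _), ac_mul]

theorem pm_ap (g : Sp) (x : Fin 6 → F2) : pm g x = vk (ac g (nk x)) := rfl
theorem pm_vk (g : Sp) (h : v < 64) : pm g (vk v) = vk (ac g v) := by rw [pm_ap, nk_vk h]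
theorem pm_SU (g : Sp) : pm g ∈ S6 := d6.mem_SU ⟨fun x y => by rw [pm_ap, nk_add, ac_xor, vk_xor, pm_ap, pm_ap], fun c x => by
    rcases c2 c with rfl | rfl <;> simp [pm_ap, nk0, ac_zero, vk0.1], fun x y => by
    rw [pm_ap, pm_ap, hf_vk (ac_lt _ _) (ac_lt _ _), ac_fm g (nk_lt _) (nk_lt _), ← hf_vk (nk_lt _) (nk_lt _), vk_nk, vk_nk]; rfl, fun _ => rfl⟩
theorem pm_τ (h : v < 64) : pm (τ v) = E 1 (vk v) 0 1 := Equiv.ext fun x => by
  obtain ⟨w, a, rfl⟩ := ex_vk x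
  rw [pm_vk _ a, ac_τ h a, vk_xor, vk_mul (fm_lt _ _), E_ap (d6.ok (hf_zero_l _) _), hf_vk a h]; simp
theorem pm_bb (a : u < 64) (b : v < 64) (e : fm u v = 0) : pm (bb u v) = E 1 (vk u) (vk v) 0 := by
  have o := (hf_vk0 a b).2 e
  have k : Ft.bb u v = τ (u ^^^ v) * τ u * τ v := by
    have f : ∀ u < 64, ∀ v < 64, fm u v = 0 → fm (u ^^^ v) u = 0 ∧ fm (u ^^^ v) v = 0 := by decide +kernel
    rw [Ft.bb, mul_assoc, τ_comm b (xor_lt a b) (f u a v b e).2, ← mul_assoc, τ_comm a (xor_lt a b) (f u a v b e).1]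
  rw [k, map_mul, map_mul, pm_τ a, pm_τ b, pm_τ (xor_lt a b), vk_xor, tv_pol d6.iv (d6.iso _) (d6.iso _) o rfl, one_smul]
theorem pm_inj : Function.Injective pm := fun g h e => ac_ext fun v l =>
  vk_inj (ac_lt _ _) (ac_lt _ _) (by rw [← pm_vk g l, e, pm_vk h l])
theorem pm_sur {k : Perm (Fin 6 → F2)} (i : k ∈ S6) : ∃ g, pm g = k := (closure_le pm.range).2 (by
  rintro _ ⟨x, a, rfl⟩
  obtain ⟨v, l, rfl⟩ := ex_vk x
  rcases c2 a with rfl | rfl
  exacts [⟨1, by simp⟩, ⟨_, pm_τ l⟩]) i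

variable {G : Type*} [Group G]

/-- the embedding of the bit model -/
def io (ρ : S6 →* G) : Sp →* G := ρ.comp (pm.codRestrict _ pm_SU)

variable {ρ : S6 →* G}

theorem io_eq (g : Sp) : io ρ g = up ρ (pm g) := (up_eq (pm_SU g)).symm
theorem io_τ (h : v < 64) : io ρ (τ v) = tv ρ (vk v) 1 := by rw [io_eq, pm_τ h]
theorem io_bb (a : u < 64) (b : v < 64) (e : fm u v = 0) : io ρ (bb u v) = ev ρ (vk u) (vk v) 0 := by rw [io_eq, pm_bb a b e]
theorem io_a : io ρ (τ 1) = tv ρ (bv 0) 1 := by rw [io_τ (by decide), vk0.2.1]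
theorem io_b : io ρ (bb 1 2) = ev ρ (bv 0) (bv 1) 0 := by rw [io_bb (by decide) (by decide) (by decide), vk0.2.1, vk0.2.2]

end CF.Y6
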