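import Cfsg.Agent.Y6.B1
import Cfsg.Agent.Sq.T2
import Cfsg.Agent.Sq.I3

/-! Fusion of `t` is visible in the clean section. -/

set_option autoImplicit false
set_option linter.unusedSectionVars false
set_option linter.unusedVariables false

namespace CF.Y6

open Cfsg Subgroup Equiv CF.Loc CF.LX CF.Ud CF.Sq
open CF.Ft hiding tv Ct PP

variable {G X : Type*} [Group G] [Finite G] [Group X] [Finite X] {ρ : S6 →* G} {ρ' : S6 →* X} {t x y z : G} {s : X} {N : Subgroup G}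
  {π : N →* X} {g w : Perm (Fin 6 → F2)}

theorem aut2 (θ : F2 ≃+* F2) : θ = 1 := RingEquiv.ext fun a => by rcases c2 a with rfl | rfl <;> simp

theorem ct_of (c : C0 ρ' s) : Ct (io ρ') s where
  inj := (d6.inj c.ker).comp fun a b e => pm_inj (congrArg Subtype.val e)
  tt := c.t2
  nt := fun m e => c.toF0.tL d6 (e ▸ ⟨_, rfl⟩)
  cm := fun m => (c.cm _ ⟨_, rfl⟩).symm
  ct := fun h e => by
    obtain ⟨θ, ξ, a, b⟩ := c.toF0.ind d6 (mem_c1.2 e)
    rw [aut2 θ] at a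
    obtain ⟨m, rfl⟩ := pm_sur (d6.mem_SU a)
    exact ⟨m, io_eq (ρ := ρ') m ▸ c.lin d6 (mem_c1.2 e) (pm_SU m) b⟩

variable (f : F0 ρ t) (r : Fr ρ t) (c : Cn ρ t N π ρ' s)
include f r c

theorem fus (i : y ∈ im ρ (WW 1 6) ⊔ zpowers t) (e : IsConj t y) : Dt s (up π y) := by
  obtain ⟨x, rfl⟩ := isConj_iff.1 e
  have d := d6
  obtain ⟨T, q, u⟩ := exists_isSyl_ge (Ud.Sx.two_im d.U_two) (im_le.trans fun x i => mem_c1.2 (r.cm x i) : im ρ (UT 1 6) ≤ 𝐂₁(t))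
  obtain ⟨n, j, k⟩ := T2.ctl d r q ((Ud.Sx.im_mono d.W_le).trans u) i
  have l : n ∈ N := c.big n fun o a b => by
    have p : o ∈ 𝐂(im ρ (WW 1 6) ⊔ zpowers t) := by
      rw [centralizer_sup]
      exact ⟨centralizer_anti im_le a.2, centralizer_zpowers t ▸ a.1⟩
    have p := conj_mem_of_mem_normalizer (normalizer_le_normalizer_centralizer _ j) p
    have q := mem_c1.2 (p t (mem_sup_right (mem_zpowers t))).symm
    exact ⟨q, f.odc d d.W_SU (fun ξ a b => d.W_el (Vf_ti le_rfl) _ (d.cW a b)) q (centralizer_anti le_sup_left p)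
      (by rwa [(SemiconjBy.orderOf_eq n (SemiconjBy.conj_mk n o)).symm])⟩
  exact ⟨up π n, by rw [← k, up_cj l c.tN, c.tt]⟩

theorem fus' (i : w ∈ WW 1 6) (e : IsConj t (t * up ρ w)) : Dt s (s * up ρ' w) := by
  have := fus f r c (T2.memA r i (d6.W_SU i) (.inr rfl)) e
  rwa [up_mul c.tN (c.rN f w), c.tt, c.ur f] at this

theorem nd6 : ND ρ t := fun g e i => by
  obtain ⟨w, a, rfl⟩ := mem_range_up.1 i
  obtain ⟨x, k⟩ := isConj_iff.1 e
  obtain ⟨u, b, j⟩ := d6.sm.m3 (su_sem a) (d6.up_inj f.ker (mul_mem a a) (one_mem _) (by rw [up_mul a a, ← k, conj_mul, f.t2]; simp))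
  have := fus f r c (mem_sup_left (up_im j (d6.W_SU j))) (e.trans (isConj_iff.2 ⟨up ρ u, (up_cj b a).symm⟩))
  obtain ⟨m, q⟩ := pm_sur (d6.W_SU j)
  rw [c.ur f, ← q, ← io_eq] at this
  exact (ct_of c.cs).nD m this

omit r in
theorem lf (i : x ∈ N) (j : y ∈ N) (k : z ∈ N) (y2 : y * y = 1) (z2 : z * z = 1) (l : z ∈ 𝐂(𝐂₁(t) ⊓ 𝐂(ρ.range)))
    (e : up π x * up π y * (up π x)⁻¹ = up π z) : x * y * x⁻¹ = z :=
  congrArg Subtype.val (c.eq2 (x := ⟨x, i⟩ * ⟨y, j⟩ * ⟨x, i⟩⁻¹) (y := ⟨z, k⟩) (fun o a => Subtype.ext (l _ (c.ker o a)))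
    (by rwa [map_mul, map_mul, map_inv, ← up_eq i, ← up_eq j, ← up_eq k]) (Subtype.ext (U.sqj y2 x)) (Subtype.ext z2))

end CF.Y6
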