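import Cfsg.Agent.Y6.B2
import Cfsg.Agent.Y6.D1
import Cfsg.Agent.Y6.T1
import Cfsg.Agent.Ud.S1
import Cfsg.Agent.Dq.C

/-! The local analysis for a standard subgroup `Sp₆(2)`. -/

set_option autoImplicit false
set_option linter.unusedSectionVars false
set_option linter.unusedVariables false
set_option synthInstance.maxSize 4000
set_option maxRecDepth 100000

namespace CF.Y6

open Cfsg Subgroup Equiv CF.Loc CF.LX CF.Ud CF.Sq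
open CF.Ft hiding tv Ct PP

variable {G X : Type*} [Group G] [Finite G] [Group X] [Finite X] {ρ : S6 →* G} {ρ' : S6 →* X} {t x : G} {s b : X} {N : Subgroup G}
  {π : N →* X} {α : ℕ} {u v : Fin 6 → F2}

theorem fm_nk (e : hf 1 u v = 0) : fm (nk u) (nk v) = 0 := (hf_vk0 (nk_lt _) (nk_lt _)).1 (by rwa [vk_nk, vk_nk])

theorem tv_cm (e : hf 1 u v = 0) (a b : F2) : E 1 v 0 a * E 1 u 0 b = E 1 u 0 b * E 1 v 0 a :=
  mul_inv_eq_iff_eq_mul.1 (by rw [tv_cj1 (E_sem _ _ _), E_fix e (hf_zero_r _)])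

theorem io_pow (a : α = 0 ∨ α = 1) (u : Fin 6 → F2) : io ρ' (τ (nk u) ^ α) = tv ρ' u α := by
  rcases a with rfl | rfl
  · simp [tv]
  · rw [pow_one, io_τ (nk_lt _), vk_nk, Nat.cast_one]

theorem bt_of (c : C0 ρ' s) (f : B0 (io ρ') s b α) (k : K0 (io ρ') s) (a : α = 0 ∨ α = 1) :
    Bt ρ' s (fun u v => bf (io ρ') b α (nk u) (nk v)) α where
  toC0 := c
  eqv := fun g i u v e => by
    obtain ⟨m, rfl⟩ := pm_sur i
    rw [← io_eq, f.eqv m (nk_lt _) (nk_lt _) (fm_nk e), pm_ap, pm_ap, nk_vk (ac_lt _ _), nk_vk (ac_lt _ _)]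
  tw := fun u v e => by rw [f.tw' (ct_of c) (nk_lt _) (nk_lt _) (fm_nk e), io_bb (nk_lt _) (nk_lt _) (fm_nk e), vk_nk, vk_nk]
  self := fun v d => by
    rcases c2 d with rfl | rfl
    · simp [nk0, bf_r, tv]
    · rw [one_smul, bf_self, io_pow a, mul_one]
  add := fun u v w p q r => by rw [nk_add, f.add (ct_of c) k a (nk_lt _) (nk_lt _) (nk_lt _) (fm_nk p) (fm_nk q) (fm_nk r)]
  sym := fun u v e => by
    rw [f.sym (nk_lt _) (nk_lt _) (fm_nk e)]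
    rcases a with rfl | rfl
    · simp [ev]
    · rw [pow_one, io_bb (nk_lt _) (nk_lt _) (fm_nk e), vk_nk, vk_nk, Nat.cast_one, one_smul]
  adj := fun u v d e => by rcases c2 d with rfl | rfl <;> simp [nk0, bf_r, bf_l]

theorem xe_of (c : C0 ρ' s) (k : C1 (io ρ') s) : ∃ x, Dq.Xe ρ' s x 1 := by
  obtain ⟨x, x4, h⟩ := (ct_of c).xe k
  have h0 : x * s * x⁻¹ = s * tv ρ' (bv 0) 1 := io_a (ρ := ρ') ▸ Mv.zero.1 (h 0 A1.O0)
  refine ⟨x, ⟨2, x4⟩, h0, fun w d o e => ?_⟩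
  obtain ⟨w, l, rfl⟩ := ex_vk w
  have o' : A1.O w := ⟨l, (hf_vk0 l (by decide)).1 (vk0.2.1 ▸ o)⟩
  obtain ⟨p, q⟩ : sh w < 64 ∧ vk (sh w) = vk w + (1 * d) • bv 0 := by
    rw [Dq.Q0_ap] at e
    exact (by decide +kernel : ∀ w < 64, ∀ d : F2, d * d = 1 + ∑ i : Fin 6, (if i.val < 6 / 2 then vk w i * vk w i.rev else 0) →
      sh w < 64 ∧ vk (sh w) = vk w + (1 * d) • bv 0) w l d e
  have r := h w o'
  have z : hf 1 (vk w + (1 * d) • bv 0) (bv 0) = 0 := by simp [o, d6.iso]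
  rw [Mv, W.cjm, h0, io_τ l, io_τ p, q, mul_assoc s, mul_right_inj, ← eq_inv_mul_iff_mul_eq, ← up_inv (tv_SU _ _), d6.E_inv,
    ← up_mul (tv_SU _ _) (tv_SU _ _)] at r
  rw [r, mul_one, ← up_mul (tv_SU _ _) (tv_SU _ _), tv_cm z]

variable (f : F0 ρ t) (c : Cn ρ t N π ρ' s)
include f c

theorem xe_lift (e : Dq.Xe ρ' s b 1) : ∃ x, Dq.Xe ρ t x 1 := by
  obtain ⟨y, rfl⟩ := c.sur b
  obtain ⟨⟨x, i⟩, ⟨n, x2⟩, h⟩ := Ud.Sx.lift_e2 π y e.two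
  rw [← h, ← up_eq i] at e
  have q : ∀ w a, tv ρ w a * tv ρ w a = 1 := fun w a => by rw [← up_mul (tv_SU _ _) (tv_SU _ _), tv_sq, up_one]
  have z : ∀ w a, tv ρ w a ∈ 𝐂(𝐂₁(t) ⊓ 𝐂(ρ.range)) := fun w a o j => (j.2 _ (up_range _)).symm
  refine ⟨x, ⟨n, congrArg Subtype.val x2⟩, lf f c i c.tN (mul_mem c.tN (c.rN f _)) f.t2 (U.sq2 f.t2 (q _ _) (f.tc _).symm) (mul_mem (fun o j => mem_c1.1 j.1) (z _ _)) (by
    rw [up_mul c.tN (c.rN f _), c.tt, c.ur f, e.tw]), fun w d o k => lf f c i (c.rN f _) (mul_mem (c.rN f _) (c.rN f _)) (q _ _) (U.sq2 (q _ _) (q _ _) ?_)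
      (mul_mem (z _ _) (z _ _)) (by rw [up_mul (c.rN f _) (c.rN f _), c.ur f, c.ur f, c.ur f, e.ac w d o k])⟩
  rw [← up_mul (tv_SU _ _) (tv_SU _ _), ← up_mul (tv_SU _ _) (tv_SU _ _), tv_cm (v := bv 0) (by simp [o, d6.iso])]

omit f c in
theorem front6 (f : F0 ρ t) (r : Fr ρ t) (c : Cn ρ t N π ρ' s) {a b : F2} (n : a ≠ 0 ∨ b ≠ 0) (e : IsConj t (t * ev ρ (bv 0) (a • bv 1) b)) :
    (¬ IsConj t (t * ev ρ (bv 0) (bv 1) 0) ∧ ∃ x, Dq.Xe ρ t x 1) ∨ ∃ β μ, Bt ρ' s β μ ∧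
      (μ = 1 → IsConj t (t * tv ρ (bv 0) 1) → ∃ y ∈ 𝐂(im ρ' (Y 1 (bv 0))), y * s * y⁻¹ = s * tv ρ' (bv 0) 1) := by
  have w : ∀ a b : F2, E 1 (bv 0) (a • bv 1) b ∈ WW (1 : F2 ≃+* F2) 6 := fun a b =>
    E_W (bv_mem (by decide)) (Submodule.smul_mem _ _ (bv_mem (by decide))) _
  have k := ct_of c.cs
  obtain ⟨m, q⟩ := pm_sur (d6.E_SU (bv 0) (a • bv 1) b)
  obtain h | ⟨g, α, i, j, k0, h⟩ := k.front ⟨m, fun z => by
      rw [z, map_one, ← E_zero (σ := 1) (bv 0), d6.E_inj d6.b0 (hf_zero_l _) (by simp [d6.sw d6.pr01.2])] at q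
      obtain ⟨rfl, d, q⟩ := q
      exact n.elim (fun z => z (by simpa [bv] using congrFun q 1)) fun z => z rfl, by
      rw [io_eq, q]; exact fus' f r c (w a b) e⟩
  · refine .inl ⟨fun z => ?_, let ⟨_, e⟩ := xe_of c.cs h; xe_lift f c e⟩
    obtain ⟨v, l, z⟩ := (h (Ft.bb 1 2)).1 (io_b (ρ := ρ') ▸ fus' f r c (by simpa using w 1 0) z)
    have := congrArg cd z
    rw [cd_bb, cd_τ, Nat.mod_eq_of_lt l] at this
    exact (by decide +kernel : ∀ v < 64, bc 1 2 ≠ tc v) v l this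
  refine .inr ⟨_, _, bt_of c.cs (k.b0 j i) k0 i, fun z d => ?_⟩
  obtain ⟨y, l⟩ := h (i.resolve_left fun e => by simp [e] at z) (io_a (ρ := ρ') ▸ fus' f r c (by simpa using w 0 1) d)
  refine ⟨y, fun x o => ?_, io_a (ρ := ρ') ▸ l.yt⟩
  obtain ⟨p, o1, o', rfl⟩ := mem_im.1 o
  obtain ⟨p, rfl⟩ := pm_sur o'
  rw [← io_eq, l.yc p (mem_P1.2 (vk_inj (ac_lt _ _) (by decide) (by rw [← pm_vk p (by decide), vk0.2.1, (mem_Y.1 o1).2])))]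

end CF.Y6
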