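import Cfsg.Agent.Dq.C2
import Cfsg.Agent.Dq.C5

/-! Odd-dimensional overgroups in dimension at least six: words in the square roots of the transvections. -/

set_option autoImplicit false
set_option linter.unusedSectionVars false
set_option linter.unusedVariables false

namespace CF.Dq

open Subgroup Equiv CF.Loc CF.LX CF.Ud Module
open CF.Sq (ev)

variable {F : Type} [Field F] [Fintype F] [CharP F 2] {m : ℕ} {a c c' k ζ ζ' : F} {g g' : Perm (Fin m → F)} {u v w n p w' n' : Fin m → F}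
  {T T' : Submodule F (Fin m → F)} {G : Type*} [Group G] [Finite G] {ρ : SU (1 : F ≃+* F) m →* G} {t x z : G} {H : Subgroup G}
  {b : (Fin m → F) → (Fin m → F) → G} {y : (Fin m → F) → G}

/-- dimension at least six -/
structure Sy6 (F : Type) [Field F] [CharP F 2] (m : ℕ) : Prop extends Sm F m where
  h6 : 6 ≤ m

open C3

namespace C3

theorem out36 (s : Sy6 F m) (u v w : Fin m → F) (h : finrank F T ≤ 2) : ∃ p, p ∉ T ∧ hf 1 p u = 0 ∧ hf 1 p v = 0 ∧ hf 1 p w = 0 := by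
  have d := s.pp_dim (Submodule.span F (Set.range ![u, v, w]))
  have := span_dim ![u, v, w]
  obtain ⟨p, i, n⟩ := exists_out (T := T) (T' := pp 1 (Submodule.span F (Set.range ![u, v, w]))) (by have := s.h6; omega)
  have := mem_pp_span.1 i
  exact ⟨p, n, this _ ⟨0, rfl⟩, this _ ⟨1, rfl⟩, this _ ⟨2, rfl⟩⟩
theorem out46 (sy : Sy6 F m) (u v w : Fin m → F) (h : finrank F T ≤ 2) (h' : finrank F T' ≤ 2) :
    ∃ p, p ∉ T ∧ p ∉ T' ∧ hf 1 p u = 0 ∧ hf 1 p v = 0 ∧ hf 1 p w = 0 := by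
  have s := sy.toSm
  obtain ⟨p, a, a'⟩ := out36 sy u v w h
  obtain ⟨q, b, b'⟩ := out36 sy u v w h'
  by_cases c : p ∈ T'
  · by_cases d : q ∈ T
    · exact ⟨p + q, fun e => a ((T.add_mem_iff_left d).1 e), fun e => b ((T'.add_mem_iff_right c).1 e), ort, ort, ort⟩
    · exact ⟨q, d, b, b'⟩
  · exact ⟨p, a, c, a'⟩
theorem exA6 (s : Sy6 F m) (v u : Fin m → F) : ∃ w n, Ad v w n ∧ hf 1 w u = 0 ∧ hf 1 n u = 0 := by
  obtain ⟨w, h, h₁, h₂, -⟩ := out36 s v u u (pair_dim v u)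
  obtain ⟨n, a, b, c⟩ := p2 s.toSm h
  exact ⟨w, n, ⟨h₁, b, a⟩, h₂, c⟩

end C3

set_option hygiene false in
local notation "𝐳" => zv ρ b y k

namespace Ry
variable (sy : Sy6 F m) (r : Ry ρ b y k)
include sy r

theorem zz_eq6 (e : Ad v w n) : zv ρ b y k v = zz ρ b y k v w n := by
  have s := sy.toSm
  have h : ∃ p : (Fin m → F) × (Fin m → F), Ad v p.1 p.2 := ⟨(w, n), e⟩
  rw [zv, dif_pos h]
  obtain ⟨p, a, b, c, d, f⟩ := out46 sy v w h.choose.1 (pair_dim v w) (pair_dim v h.choose.1)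
  obtain ⟨n₁, h₁, e₁⟩ := r.z4 s e c d a
  obtain ⟨n₂, h₂, e₂⟩ := r.z4 s h.choose_spec c f b
  rw [← e₁, ← e₂, r.z3 s h₁ h₂]
theorem ze6 (i : g ∈ SU (1 : F ≃+* F) m) (v : Fin m → F) : up ρ g * zv ρ b y k v * (up ρ g)⁻¹ = zv ρ b y k (g v) := by
  have s := sy.toSm
  obtain ⟨w, n, h, -⟩ := exA6 sy v 0
  have a := su_sem i
  rw [r.zz_eq6 sy h, r.zz_eq6 sy (v := g v) (w := g w) (n := g n) ⟨by rw [a.form1, h.1], by rw [a.form1, h.2.1], by rw [a.form1, h.2.2]⟩,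
    zz, zz, conj_mul_conj, conj_mul_conj, conj_mul_conj, cj3, r.eqv g i _ _ (hf_sw h.1), r.eqv g i _ _ (hf_sw h.2.1), r.ye g i, Ec s i,
    a.smul1]
theorem zm6 (i : g ∈ SU (1 : F ≃+* F) m) (e : g v = v) : up ρ g * 𝐳 v = 𝐳 v * up ρ g := conj_eq_iff.1 (by rw [r.ze6 sy i, e])
theorem ez6 (e : hf 1 v w = 0) (e' : hf 1 v n = 0) : ev ρ w n ζ * 𝐳 v = 𝐳 v * ev ρ w n ζ := r.zm6 sy (sy.E_SU _ _ _) (E_fix e e' _)
theorem z06 : 𝐳 0 = 1 := by
  obtain ⟨w, n, h, -⟩ := exA6 sy 0 0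
  simp [r.zz_eq6 sy h, zz, (r.b0 sy.toSm _).2, e0]
theorem yb6 (e : hf 1 w v = 0) (e' : hf 1 n v = 0) (h : hf 1 n w = c) :
    y w * b v n * (y w)⁻¹ = b v n * 𝐳 (c • v) * (b v (c • w) * ev ρ v ((k * c) • w) 0) := by
  have s := sy.toSm
  have := hf_sw e; have := hf_sw e'
  by_cases c0 : c = 0
  · subst c0
    simp [conj_eq_iff.2 (r.cb w v n ort h ort), r.z06 sy, (r.b0 s v).1, ev]
  rw [r.zz_eq6 sy (v := c • v) (w := w) (n := c⁻¹ • n) ⟨ort, ort, by rw [hf_smul_l, h, inv_mul_cancel₀ c0]⟩, zz, r.adj _ _ _ ort, smul_smul,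
    mul_inv_cancel₀ c0, one_smul, r.adj _ _ _ ort, show ev ρ (c • v) (k • w) 0 = ev ρ v ((k * c) • w) 0 from pt]
  simp only [mul_assoc, cn (r.bb s e'), cn (r.bb s (n := c • w) (v := v) ort), ee s, mul_one]
theorem zw6 (h : Ad v w n) (c : F) :
    𝐳 (c • v) = (b v (c • n))⁻¹ * (y w * b v (c • n) * (y w)⁻¹) * (b v (c • w) * ev ρ v ((k * c) • w) 0)⁻¹ := by
  rw [r.yb6 sy h.1 (c := c) (by rw [hf_smul_l, h.2.1, mul_zero]) (by rw [hf_smul_l, h.2.2, mul_one])]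
  group
theorem bz6 (e : hf 1 p v = 0) (c : F) : b v p * 𝐳 (c • v) = 𝐳 (c • v) * b v p := by
  have s := sy.toSm
  obtain ⟨w, n, h, h₄, -⟩ := exA6 sy v p
  have ⟨h₁, h₂, h₃⟩ := h
  have := hf_sw e; have := hf_sw h₁; have := hf_sw h₄
  have a : Commute (b v p) (b v (c • n)) := r.c1 s e ort
  have a' : Commute (b v p) (y w) := (r.cb _ _ _ ort ort ort).symm
  rw [r.zw6 sy h]
  exact (a.inv_right.mul_right ((a'.mul_right a).mul_right a'.inv_right)).mul_right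
    ((show Commute (b v p) _ from r.c1 s e ort).mul_right (r.eb s ort ort ort ort ort).symm).inv_right
theorem za6 (c c' : F) (v : Fin m → F) : 𝐳 (c • v) * 𝐳 (c' • v) = tv ρ v (k * c * c') * 𝐳 ((c + c') • v) := by
  have s := sy.toSm
  obtain ⟨w, n, ⟨h₁, h₂, h₃⟩, -⟩ := exA6 sy v 0
  have := hf_sw h₁; have := hf_sw h₂; have := (hf_comm w n).trans h₃
  have h := conj_mul_conj (y w) (b v (c • n)) (b v (c' • n))
  rw [← r.add2 s ort ort ort, ← add_smul, r.yb6 sy (c := c + c') h₁ ort ort, r.yb6 sy (c := c) h₁ ort ort, r.yb6 sy (c := c') h₁ ort ort,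
    r.bz6 sy ort, r.bz6 sy ort, r.bz6 sy ort, add_smul c c' n, add_smul c c' w, r.add2 s ort ort ort, r.add2 s ort ort ort] at h
  have b' : ∀ p z, hf 1 p v = 0 → b v p * (𝐳 (c' • v) * z) = 𝐳 (c' • v) * (b v p * z) := fun p z e => by
    rw [← mul_assoc, r.bz6 sy e, mul_assoc]
  refine mul_right_cancel (b := b v (c • n) * (b v (c • w) * (ev ρ v ((k * c) • w) 0 * (b v (c' • n) * (b v (c' • w) * ev ρ v ((k * c') • w) 0))))) ?_
  rw [r.ez6 sy ort ort, mul_assoc, ← b' _ _ ort, ← b' _ _ ort, ← mul_assoc (𝐳 (c' • v)), ← r.ez6 sy ort ort]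
  simp only [mul_assoc] at h ⊢
  rw [← h, ← mul_assoc (ev ρ v ((k * c) • w) 0), r.eb2 s ort ort, mul_assoc (b v (c' • n)) (_ * _), ← mul_assoc (b v (c • w)) (b v (c' • n)),
    r.c1 s (n := c • w) (n' := c' • n) ort ort]
  clear h b'
  simp only [mul_assoc, r.eb' s, hs s, *]
  exact pt
theorem yz6 (a c : F) (v : Fin m → F) : 𝐳 (c • v) * y (a • v) = tv ρ v (a * c) * (y (a • v) * 𝐳 (c • v)) := by
  have s := sy.toSm
  obtain ⟨w, n, h, -⟩ := exA6 sy v 0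
  have ⟨h₁, h₂, h₃⟩ := h
  have := hf_sw h₁; have := hf_sw h₂; have := (hf_comm w n).trans h₃
  have q : y (a • v) * (y w * b v (c • n) * (y w)⁻¹) * (y (a • v))⁻¹ = y w * b v (c • n) * (y w)⁻¹ * tv ρ v (a * c) := by
    rw [← cj2, r.yy s ort, cj2, cj2, conj_eq_iff.2 (r.cb (a • v) _ _ ort ort ort), ← cj2, r.ey s ort ort, cj2,
      show ev ρ (a • v) w 0 = ev ρ v (a • w) 0 from pt, r.eb2 s ort ort, ← mul_assoc (b v _), mul_inv_cancel_right, conj_mul_conj,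
      conj_eq_iff.2 (r.ey s ort ort).symm]
    simp only [hs s, *]
  have q' : y (a • v) * 𝐳 (c • v) * (y (a • v))⁻¹ = 𝐳 (c • v) * tv ρ v (a * c) := by
    have e : Commute (tv ρ v (a * c)) (b v (c • w) * ev ρ v ((k * c) • w) 0) :=
      (show Commute _ _ from r.eb s ort ort ort ort ort).mul_right (show _ * _ = _ * _ by clear q; exact pt)
    rw [r.zw6 sy h, conj_mul_conj, conj_mul_conj, q, conj_eq_iff.2 (show Commute _ _ from r.cb (a • v) _ _ ort ort ort).inv_right,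
      conj_eq_iff.2 ((show Commute _ _ from r.cb (a • v) _ _ ort ort ort).mul_right (r.ey s ort ort).symm).inv_right, mul_assoc, mul_assoc,
      e.inv_right.eq]
    group
  rw [mul_inv_eq_iff_eq_mul.1 q', ← r.ez6 sy ort ort, mul_assoc, cn (ee s ..)]
theorem nf6 (i : x ∈ JC ρ b y k v) : ∃ (n : Fin m → F) (ζ : F) (n' : Fin m → F) (a c : F), hf 1 n v = 0 ∧ hf 1 n' v = 0 ∧
    x = ev ρ v n ζ * b v n' * y (a • v) * zv ρ b y k (c • v) := by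
  have s := sy.toSm
  rw [JC, JB, ← Subgroup.closure_union] at i
  obtain ⟨j, hj, a, c, rfl⟩ : ∃ j ∈ JB ρ b v, ∃ a c : F, x = j * (y (a • v) * 𝐳 (c • v)) := by
    refine ind (P := fun x => ∃ j ∈ JB ρ b v, ∃ a c : F, x = j * (y (a • v) * 𝐳 (c • v))) i
      ⟨1, one_mem _, 0, 0, by simp [r.zero, r.z06 sy]⟩ ?_
    rintro _ (l | ⟨d, rfl⟩ | ⟨d, rfl⟩) _ ⟨j, hj, a, c, rfl⟩
    · exact ⟨_, mul_mem (subset_closure l) hj, a, c, (mul_assoc ..).symm⟩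
    · have := mem_c1.1 (JB_le s (H := 𝐂₁(y (d • v))) (fun n ζ e => mem_c1.2 (r.ey s ort (by rw [hf_comm]; exact ort)))
        (fun n e => mem_c1.2 (r.cb _ _ _ ort ort (hf_sw e)).symm) hj)
      exact ⟨_, mul_mem hj (eJ _ _ _), _, c, by rw [← mul_assoc, ← this, mul_assoc, ← mul_assoc (y _), r.y2 s, mul_assoc, mul_assoc]⟩
    · have := mem_c1.1 (JB_le s (H := 𝐂₁(𝐳 (d • v))) (fun n ζ e => mem_c1.2 (r.ez6 sy ort (by rw [hf_comm]; exact ort)))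
        (fun n e => mem_c1.2 (r.bz6 sy e d)) hj)
      exact ⟨_, mul_mem (mul_mem hj (eJ v 0 (a * d))) (eJ v 0 (k * d * c)), a, d + c, by
        rw [← mul_assoc, ← this, mul_assoc, ← mul_assoc (𝐳 _), r.yz6 sy, mul_assoc, mul_assoc, r.za6 sy, ← r.ey' s ort ort, mul_assoc (j * _), mul_assoc j]⟩
  obtain ⟨n, ζ, n', e, e', rfl⟩ := r.toRb.nf s hj
  exact ⟨n, ζ, n', a, c, e, e', (mul_assoc ..).symm⟩
theorem nr6 (i : g ∈ SU (1 : F ≃+* F) m) (v : Fin m → F) : cj[up ρ g] (JC ρ b y k v) = JC ρ b y k (g v) := by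
  have l : ∀ g ∈ SU (1 : F ≃+* F) m, ∀ v, cj[up ρ g] (JC ρ b y k v) ≤ JC ρ b y k (g v) := fun g i v =>
    JC_cj ((r.jr sy.toSm i v).trans le_sup_left) (fun c => by rw [r.ye g i, (su_sem i).smul1]; exact yC _ _) fun c => by
      rw [r.ze6 sy i, (su_sem i).smul1]; exact zC _ _
  refine le_antisymm (l g i v) (le_cj_iff.2 ?_)
  simpa [up_inv i] using l _ (inv_mem i) (g v)
theorem nu6 (i : g ∈ SU (1 : F ≃+* F) m) (e : g v = v) : up ρ g ∈ 𝐍(JC ρ b y k v) := cj_eq_self_iff.1 (by rw [r.nr6 sy i, e])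
theorem ns6 (c0 : c ≠ 0) (v : Fin m → F) : JC ρ b y k (c • v) = JC ρ b y k v := by
  have s := sy.toSm
  have l : ∀ c : F, c ≠ 0 → ∀ v, JC ρ b y k (c • v) ≤ JC ρ b y k v := fun c c0 v => by
    have o : ∀ n, hf 1 n (c • v) = 0 → hf 1 n v = 0 := fun n e => by simpa [hf_smr, c0] using e
    refine JC_le (JB_le s (fun n ζ e => ?_) fun n e => ?_) (fun a => smul_smul a c v ▸ yC _ _) fun a => smul_smul a c v ▸ zC _ _
    · rw [ev, E_smul (s.ok e ζ) (s.iso v) (o n e)]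
      exact eC _ _ _
    · have := o n e
      rw [r.adj _ _ _ (hf_sw this)]
      exact bC ort
  refine le_antisymm (l c c0 v) ?_
  simpa [smul_smul, c0] using l _ (inv_ne_zero c0) (c • v)
theorem yJ6 (e : hf 1 w v = 0) : cj[y w] (JB ρ b v) ≤ JC ρ b y k v := by
  have s := sy.toSm
  refine JB_cj s (fun n ζ h => ?_) fun n h => ?_
  · rw [r.yE s e h rfl]
    exact mul_mem (eC _ _ _) (mul_mem (bC ort) (yC _ _))
  · rw [r.yb6 sy e h rfl]
    exact mul_mem (mul_mem (bC h) (zC _ _)) (mul_mem (bC ort) (eC _ _ _))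
theorem ny6 (e : hf 1 w v = 0) : y w ∈ 𝐍(JC ρ b y k v) := by
  have s := sy.toSm
  by_cases h : w ∈ Submodule.span F {v}
  · obtain ⟨a, rfl⟩ := Submodule.mem_span_singleton.1 h
    exact le_normalizer (yC _ _)
  obtain ⟨n, h₀, h₁⟩ := p1 s h
  have := hf_sw e
  have l := cj_le_iff_forall.1 (r.yJ6 sy e)
  refine mem_normalizer_of_cj_le (JC_cj (r.yJ6 sy e) (fun c => ?_) fun c => ?_)
  · rw [r.yy s ort, ← mul_assoc, mul_inv_cancel_right, show ev ρ w (c • v) 0 = ev ρ v (c • w) 0 from pt]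
    exact mul_mem (eC _ _ _) (yC _ _)
  · rw [r.zw6 sy ⟨e, h₁, h₀⟩, conj_mul_conj, conj_mul_conj, ← cj2, r.sq, r.eqv _ (tv_SU _ _) _ _ (by rw [hf_comm]; exact ort),
      E_fix ort ort, s.tv_ap]
    exact mul_mem (mul_mem (l _ (inv_mem (bJ ort))) (bC ort)) (l _ (inv_mem (mul_mem (bJ ort) (eJ _ _ _))))
theorem nb6 (e₁ : hf 1 w v = 0) (e₂ : hf 1 p v = 0) (e₃ : hf 1 p w = 0) : b w p ∈ 𝐍(JC ρ b y k v) := by
  rw [eq_mul_inv_of_mul_eq (eq_mul_inv_of_mul_eq (r.pol w p (hf_sw e₃)).symm)]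
  exact mul_mem (mul_mem (r.ny6 sy (by rw [hf_add_l, e₁, e₂, add_zero])) (inv_mem (r.ny6 sy e₂))) (inv_mem (r.ny6 sy e₁))
theorem nz6 (e : hf 1 w v = 0) : zv ρ b y k w ∈ 𝐍(JC ρ b y k v) := by
  have s := sy.toSm
  obtain ⟨p, n, h, h₁, h₂⟩ := exA6 sy w v
  have := hf_sw e; have := hf_sw h₁
  have l := r.nb6 sy e h₂ h.2.1
  rw [r.zz_eq6 sy h]
  exact mul_mem (mul_mem (mul_mem l (mul_mem (mul_mem (r.ny6 sy h₁) l) (inv_mem (r.ny6 sy h₁)))) (r.nu6 sy (s.E_SU _ _ _) (E_fix ort ort _)))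
    (r.nb6 sy e h₁ h.1)
theorem nt6 (e₁ : ∀ g, t * ρ g = ρ g * t) (e₂ : ∀ u v, hf 1 u v = 0 → t * b u v * t⁻¹ = b u v * ev ρ u v 0)
    (e₃ : ∀ v, t * y v * t⁻¹ = y v * tv ρ v 1) (v : Fin m → F) : t ∈ 𝐍(JC ρ b y k v) := by
  have s := sy.toSm
  have l : cj[t] (JB ρ b v) ≤ JC ρ b y k v := JB_cj s (fun n ζ h => by
    rw [ev, up_eq (s.E_SU _ _ _), conj_eq_iff.2 (e₁ _), ← up_eq (s.E_SU _ _ _)]; exact eC _ _ _) fun n h => by
      rw [e₂ _ _ (hf_sw h)]; exact mul_mem (bC h) (eC _ _ _)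
  refine mem_normalizer_of_cj_le (JC_cj l (fun c => ?_) fun c => ?_)
  · rw [e₃, tv, s.tv_sm]
    exact mul_mem (yC _ _) (eC _ _ _)
  obtain ⟨w, n, h, -⟩ := exA6 sy v 0
  have ⟨h₁, h₂, h₃⟩ := h
  have l := cj_le_iff_forall.1 l
  rw [r.zw6 sy h, conj_mul_conj, conj_mul_conj, cj3, e₃]
  exact mul_mem (mul_mem (l _ (inv_mem (bJ ort))) (conj_mem_of_mem_normalizer
    (mul_mem (r.ny6 sy h₁) (r.nu6 sy (tv_SU _ _) (E_fix (hf_sw h₁) ort _))) (l _ (bJ ort)))) (l _ (inv_mem (mul_mem (bJ ort) (eJ _ _ _))))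
theorem le6 (v : Fin m → F) : JC ρ b y k v ≤ ρ.range ⊔ closure (Set.range y) := by
  have s := sy.toSm
  have l₁ : ∀ g, up ρ g ∈ ρ.range ⊔ closure (Set.range y) := fun g => mem_sup_left (up_range g)
  have l₂ : ∀ v, y v ∈ ρ.range ⊔ closure (Set.range y) := fun v => mem_sup_right (subset_closure ⟨v, rfl⟩)
  have l₃ : ∀ v n, hf 1 n v = 0 → b v n ∈ ρ.range ⊔ closure (Set.range y) := fun v n e => by
    rw [eq_mul_inv_of_mul_eq (eq_mul_inv_of_mul_eq (r.pol v n (hf_sw e)).symm)]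
    exact mul_mem (mul_mem (l₂ _) (inv_mem (l₂ _))) (inv_mem (l₂ _))
  refine JC_le (JB_le s (fun _ _ _ => l₁ _) (l₃ v)) (fun _ => l₂ _) fun c => ?_
  obtain ⟨w, n, h, -⟩ := exA6 sy (c • v) 0
  rw [r.zz_eq6 sy h]
  exact mul_mem (mul_mem (mul_mem (l₃ _ _ h.2.1) (mul_mem (mul_mem (l₂ _) (l₃ _ _ h.2.1)) (inv_mem (l₂ _)))) (l₁ _)) (l₃ _ _ h.1)
theorem ncl6 (v : Fin m → F) : y v ∈ normalClosure (ρ.range : Set G) := by
  have s := sy.toSm
  obtain ⟨w, n, ⟨h₁, h₂, h₃⟩, -⟩ := exA6 sy v 0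
  obtain ⟨g, i, e⟩ := s.witt1 (u := w) (v := v + w) (fun e => by simp [e] at h₃) fun e => by
    have := congrArg (hf 1 n) e
    simp [h₂, h₃] at this
  have l : up ρ g ∈ normalClosure (ρ.range : Set G) := le_normalClosure (up_range g)
  have q := r.ye g i w
  rw [e, r.pol _ _ (hf_sw h₁)] at q
  rw [show y v = (b v w)⁻¹ * up ρ g * (y w * (up ρ g)⁻¹ * (y w)⁻¹) by
    rw [eq_inv_mul_of_mul_eq (eq_mul_inv_of_mul_eq q.symm)]; group]
  exact mul_mem (mul_mem (inv_mem (r.toRb.ncl s h₁)) l) (normalClosure_normal.conj_mem _ (inv_mem l) _)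

end Ry

end CF.Dq
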