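import Cfsg.Agent.Y6.C1

/-! Odd-dimensional overgroups in dimension at least six: the square roots of the transvections. -/

set_option autoImplicit false
set_option linter.unusedSectionVars false
set_option linter.unusedVariables false

namespace CF.Dq

open Subgroup Equiv CF.Loc CF.LX CF.Ud Module C3
open CF.Sq (ev)

variable {F : Type} [Field F] [Fintype F] [CharP F 2] {m : ℕ} {a c k δ : F} {g : Perm (Fin m → F)} {u v w n p w' n' : Fin m → F}
  {T : Submodule F (Fin m → F)} {G : Type*} [Group G] [Finite G] {ρ : SU (1 : F ≃+* F) m →* G} {t h x z : G}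
  {b : (Fin m → F) → (Fin m → F) → G} {y : (Fin m → F) → G}

set_option hygiene false in
local notation "𝐕" => Vf F m (m / 2)

theorem tri (h : ∀ a b c : F, a • u + b • v + c • w = 0 → a = 0 ∧ b = 0 ∧ c = 0) : LinearIndependent F ![u, v, w] :=
  Fintype.linearIndependent_iff.2 fun g e i => by
    have := h (g 0) (g 1) (g 2) (by simpa [Fin.sum_univ_three] using e)
    fin_cases i
    exacts [this.1, this.2.1, this.2.2]
theorem tri' (l : LinearIndependent F ![u, v, w]) (a b c : F) (e : a • u + b • v + c • w = 0) : a = 0 ∧ b = 0 ∧ c = 0 :=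
  have := Fintype.linearIndependent_iff.1 l ![a, b, c] (by simpa [Fin.sum_univ_three] using e)
  ⟨this 0, this 1, this 2⟩

namespace CB
variable (sy : Sy6 F m) (f : CB ρ t b k)
include sy f

theorem y06 (i : x ∈ 𝐂(im ρ (Y 1 (bv 0)))) (e : x * t * x⁻¹ = t * tv ρ (bv 0) 1) : ∃ y, Y0 ρ t y ∧ y (bv 0) = x := by
  classical
  have s := sy.toSm
  have tr : ∀ u : Fin m → F, u ≠ 0 → ∃ g ∈ SU (1 : F ≃+* F) m, g (bv 0) = u := fun u => s.witt1 s.b0
  choose! c c1 c2 using tr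
  obtain ⟨y, hy⟩ : ∃ y : (Fin m → F) → G, ∀ u, y u = if u ≠ 0 then up ρ (c u) * x * (up ρ (c u))⁻¹ else 1 := ⟨_, fun _ => rfl⟩
  have key : ∀ g ∈ SU (1 : F ≃+* F) m, y (g (bv 0)) = up ρ g * x * (up ρ g)⁻¹ := fun g j => by
    have l := (su_sem j).ne s.b0
    have o := mul_mem (inv_mem j) (c1 _ l)
    have := i _ (up_im (B := Y 1 (bv 0)) ⟨o, show _ = _ by simp [c2 _ l]⟩ o)
    rw [up_mul (inv_mem j) (c1 _ l), up_inv j] at this
    rw [hy, if_pos l]
    calc _ = up ρ g * ((up ρ g)⁻¹ * up ρ (c (g (bv 0))) * x) * (up ρ (c (g (bv 0))))⁻¹ := by group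
      _ = _ := by rw [this]; group
  have z : y 0 = 1 := by simp [hy]
  have cs : ∀ u, u = 0 ∨ ∃ g ∈ SU (1 : F ≃+* F) m, g (bv 0) = u := fun u => or_iff_not_imp_left.2 fun e => ⟨c u, c1 u e, c2 u e⟩
  refine ⟨y, ⟨z, fun g j u => ?_, fun u => ?_⟩, by simpa using key 1 (one_mem _)⟩ <;> rcases cs u with rfl | ⟨g', l, rfl⟩
  · simp [z, (su_sem j).zero]
  · rw [key _ l, ← Perm.mul_apply, key _ (mul_mem j l), up_mul j l, cj2]
  · simp [z, S1.T0]
  · conv_lhs => rw [key _ l, ← f.ct' s g', ← cj3, e, conj_mul_conj, f.ct' s, Tc s l]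

theorem k16 (e : Y0 ρ t y) (l : LinearIndependent F ![v, u, w]) (e₁ : hf 1 u v = 0) (e₂ : hf 1 w v = 0) (e₃ : hf 1 u w = 0) :
    ∃ a c : F, y v * b u w * (y v)⁻¹ = b u w * (tv ρ v c * ev ρ u (a • w) 0) := by
  have s := sy.toSm
  have r := f.toRb
  have := hf_sw e₁; have := hf_sw e₂; have := hf_sw e₃
  have ti : Ti 1 (Submodule.span F (Set.range ![v, u, w])) := ti_span fun i j => by fin_cases i <;> fin_cases j <;> simp [s.iso, *]
  have hv : v ∈ Submodule.span F (Set.range ![v, u, w]) := Submodule.subset_span ⟨0, rfl⟩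
  have hu : u ∈ Submodule.span F (Set.range ![v, u, w]) := Submodule.subset_span ⟨1, rfl⟩
  have hw : w ∈ Submodule.span F (Set.range ![v, u, w]) := Submodule.subset_span ⟨2, rfl⟩
  obtain ⟨g, i, d⟩ := f.cB s ti hu hw hv (li_sub l (i := 1) (j := 2) (by decide)) (e.tw v) (e.ey s ort ort) (e.ey s ort ort)
    fun p o => by
      have := o v hv; have := o u hu; have := o w hw
      exact ⟨_, e.ey s ort ort, r.be0 s ort ort ort ort ort⟩
  have gu := W_fix i (ti u hu)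
  have gw := W_fix i (ti w hw)
  have key : ∀ p n c, p ≠ 0 → g p = p → hf 1 v p = 0 → hf 1 v n = 0 → hf 1 n p = 0 →
      ev ρ p n 0 * b u w * (ev ρ p n 0)⁻¹ = b u w * tv ρ p c → ∃ a : F, g n = n + a • p := fun p n c p0 gp a₁ a₂ a₃ q => by
    have d' := cj3 (y v) (ev ρ p n 0) (b u w)
    have o : g * E 1 p 0 c = E 1 p 0 c * g := conj_eq_iff.1 (by rw [tv_cj1 i.1, gp])
    rw [q, e.ey s a₁ a₂, conj_mul_conj, d, conj_mul_conj, q, e.ey s a₁ ort, mul_assoc, mul_assoc, mul_right_inj, um s i.1 (E_sem ..), o,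
      ← um s (E_sem ..) i.1, mul_right_inj, ← up_cj (s.E_SU _ _ _) (s.W_SU i)] at d'
    have := conj_eq_iff.2 (conj_eq_iff.1 (s.upi f.ker i.1 ((E_sem ..).cj i.1) d').symm).symm
    rw [E_cj1 i.1, gp] at this
    obtain ⟨a, h, -⟩ := s.E_inj a₃ (by rw [← gp, i.1.form1, a₃]) p0 this.symm
    exact ⟨a, h⟩
  obtain ⟨n, hn⟩ := s.dual l ![0, 1, 0]
  obtain ⟨n', hn'⟩ := s.dual l ![0, 0, 1]
  have n₀ : hf 1 v n = 0 := hn 0
  have n₁ : hf 1 n u = 1 := (hf_comm ..).trans (hn 1)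
  have n₂ : hf 1 n w = 0 := hf_sw (hn 2)
  have n₃ : hf 1 v n' = 0 := hn' 0
  have n₄ : hf 1 n' u = 0 := hf_sw (hn' 1)
  have n₅ : hf 1 n' w = 1 := (hf_comm ..).trans (hn' 2)
  clear hn hn'
  have := hf_sw n₀; have := hf_sw n₂; have := hf_sw n₃; have := hf_sw n₄
  obtain ⟨a, g₁⟩ := key w n 1 (l.ne_zero 2) gw ort n₀ n₂ (by
    rw [r.eqv _ (s.E_SU _ _ _) _ _ e₃, Ea s n₂ e₃, n₁, E_fix ort ort, r.add1 s ort ort ort, r.adj _ _ _ ort, r.self])
  obtain ⟨a', g₂⟩ := key u n' 1 (l.ne_zero 1) gu ort n₃ n₄ (by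
    rw [r.eqv _ (s.E_SU _ _ _) _ _ e₃, E_fix ort ort, Ea s n₄ ort, n₅, r.add2 s ort ort ort, r.self])
  clear key
  obtain rfl : a' = a := by
    have := i.1.form1 n n'
    rw [g₁, g₂] at this
    simp only [hs s, n₁, hf_comm w n', n₅, hf_sw e₃] at this
    grind
  obtain ⟨c, hc⟩ := s.W1 (s.mem_W (T := Submodule.span F {v}) (i.1.mul1 (E_sem u (a' • w) 0)) fun p o => by
    have o := o v (Submodule.mem_span_singleton_self v)
    have q := W_fix i (x := p + hf 1 p u • n + hf 1 p w • n') (mem_pp.1 (mem_pp_span.2 fun _ ⟨j, e⟩ => e ▸ by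
      fin_cases j <;> simp [*, CharTwo.add_self_eq_zero]))
    rw [Perm.mul_apply, Eap s _ _ ort]
    simp only [i.1.add, i.1.smul1, g₁, g₂, gu, gw, hs s] at q ⊢
    ext j
    have := congrFun q j
    simp only [Pi.add_apply, Pi.smul_apply, smul_eq_mul] at this ⊢
    grind)
  exact ⟨a', c, by rw [d, um s (E_sem ..) (E_sem ..), ← hc, mul_assoc g, s.E_sq, mul_one]⟩

theorem ka6 (e : Y0 ρ t y) : ∃ a, Ka ρ b y a := by
  have s := sy.toSm
  have r := f.toRb
  obtain ⟨z, hz, l₁⟩ : ∃ z ∈ 𝐕, LinearIndependent F ![bv 0, bv 1, z] := have := sy.h6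
    ⟨bv 2, bv_mem (by omega), li01 ⟨2, by omega⟩ le_rfl (by simp [bv])⟩
  have o := fun {x y} => @S1.or0 F _ _ _ m x y
  have h₀ := s.b0V
  have h₁ := s.b1V
  obtain ⟨a, c, d⟩ := f.k16 sy e l₁ (o h₁ h₀) (o hz h₀) (o h₁ hz)
  have k₂ : ∀ v u w, LinearIndependent F ![v, u, w] → hf 1 u v = 0 → hf 1 w v = 0 → hf 1 u w = 0 →
      y v * b u w * (y v)⁻¹ = b u w * (tv ρ v c * ev ρ u (a • w) 0) := fun v u w l e₁ e₂ e₃ => by
    obtain ⟨g, i, q⟩ := s.witt0 l₁ l fun i j => by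
      fin_cases i <;> fin_cases j <;> simp [s.iso, e₁, e₂, e₃, hf_sw e₁, hf_sw e₂, hf_sw e₃, o, h₀, h₁, hz]
    obtain rfl : g (bv 0) = v := q 0
    obtain rfl : g (bv 1) = u := q 1
    obtain rfl : g z = w := q 2
    rw [← e.ye g i, ← r.eqv g i _ _ (o h₁ hz), ← cj3, d, conj_mul_conj, conj_mul_conj, Tc s i, Ec s i, (su_sem i).smul1]
  have ad : ∀ c v u w p, hf 1 u v = 0 → hf 1 w v = 0 → hf 1 p v = 0 → hf 1 w u = 0 → hf 1 p u = 0 → hf 1 w p = 0 →
      y v * b u w * (y v)⁻¹ = b u w * (tv ρ v c * ev ρ u (a • w) 0) → y v * b u p * (y v)⁻¹ = b u p * (tv ρ v c * ev ρ u (a • p) 0) →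
      y v * b u (w + p) * (y v)⁻¹ = b u (w + p) * (tv ρ v 0 * ev ρ u (a • (w + p)) 0) := fun c v u w p e₁ e₂ e₃ e₄ e₅ e₆ d₁ d₂ => by
    have := hf_sw e₁; have := hf_sw e₂; have := hf_sw e₃; have := hf_sw e₄; have := hf_sw e₅; have := hf_sw e₆
    rw [r.add2 s ort ort ort, conj_mul_conj, d₁, d₂]
    clear d d₁ d₂ k₂
    simp only [mul_assoc, r.eb' s, hs s, *]
    exact pt
  have sw : ∀ v u w, hf 1 u v = 0 → hf 1 w v = 0 → hf 1 u w = 0 → y v * b u w * (y v)⁻¹ = b u w * (tv ρ v 0 * ev ρ u (a • w) 0) →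
      y v * b w u * (y v)⁻¹ = b w u * (tv ρ v 0 * ev ρ w (a • u) 0) := fun v u w e₁ e₂ e₃ q => by
    have := hf_sw e₁; have := hf_sw e₂; have := hf_sw e₃
    rw [r.sym u w e₃, conj_mul_conj, q, e.ey s ort ort]
    clear d q k₂ ad
    exact pt
  obtain rfl : c = 0 := by
    obtain ⟨u, w, p, l, e₁, e₂, e₃⟩ : ∃ u w p : Fin m → F, LinearIndependent F ![u, w, p] ∧ hf 1 u w = 0 ∧ hf 1 u p = 0 ∧ hf 1 w p = 0 :=
      ⟨_, _, _, l₁, o h₀ h₁, o h₀ hz, o h₁ hz⟩
    have := hf_sw e₁; have := hf_sw e₂; have := hf_sw e₃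
    have A := k₂ (u + w) u p (tri fun a b c q => by have := tri' l (a + b) a c (by rw [← q]; module); grind) ort ort ort
    have B := k₂ w u p (tri fun a b c q => by have := tri' l b a c (by rw [← q]; module); grind) ort ort ort
    have C := ad c u p (u + w) w ort ort ort ort ort ort
      (k₂ u p (u + w) (tri fun a b c q => by have := tri' l (a + c) c b (by rw [← q]; module); grind) ort ort ort)
      (k₂ u p w (tri fun a b c q => by have := tri' l a c b (by rw [← q]; module); grind) ort ort ort)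
    rw [add_assoc, vv, add_zero] at C
    replace C := sw u p u ort ort ort C
    have key : ∀ ε : F, b u w * y u * y w * (b u p * ev ρ u (ε • p) 0) * (b u w * y u * y w)⁻¹ = b u p * (tv ρ w c * ev ρ u (ε • p) 0) := fun ε => by
      rw [cj2, cj2, conj_mul_conj (y w), B, e.ey s ort ort, conj_mul_conj (y u), conj_mul_conj (y u), conj_mul_conj (y u), C, e.ey s ort ort,
        e.ey s ort ort, e.ey s ort ort, show b u p * (tv ρ u 0 * ev ρ u (a • p) 0) * (tv ρ w c * ev ρ u (a • p) 0) * ev ρ u (ε • p) 0 =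
          b u p * (tv ρ w c * ev ρ u (ε • p) 0) by clear d k₂ ad sw A B C; exact pt, conj_mul_conj, conj_mul_conj,
        conj_eq_iff.2 (r.c1 s ort ort), r.be0 s ort ort ort ort ort, r.be0 s ort ort ort ort ort]
    obtain ⟨a₁, a₂, d', h⟩ := f.rel s e e₁
    have q : tv ρ u a₁ * tv ρ w a₂ * ev ρ u (d' • w) 0 * b u p * (tv ρ u a₁ * tv ρ w a₂ * ev ρ u (d' • w) 0)⁻¹ = b u p := by
      rw [cj2, cj2, conj_eq_iff.2 (r.eb s ort ort ort ort ort), conj_eq_iff.2 (r.eb s ort ort ort ort ort),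
        conj_eq_iff.2 (r.eb s ort ort ort ort ort)]
    obtain ⟨ε, h⟩ : ∃ ε : F, tv ρ w c * ev ρ u (ε • p) 0 = tv ρ (u + w) c * ev ρ u (a • p) 0 := by
      rcases h with h | h
      · have := key 0
        rw [zero_smul, ev, E_zero, up_one, mul_one] at this
        rw [h, cj2, q, this, mul_right_inj] at A
        exact ⟨0, by simp [← A, ev]⟩
      · have := key 1
        rw [one_smul] at this
        rw [h, cj2, q, cj2, f.tb s ort, this, mul_right_inj] at A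
        exact ⟨1, by rw [← A, one_smul]⟩
    have h' : ev ρ u (c • w + (a + ε) • p) c = ev ρ u 0 0 := by
      refine mul_left_cancel (a := tv ρ w c * ev ρ u (ε • p) 0) ?_
      conv_rhs => rw [h]
      clear d k₂ ad sw A B C key q h
      exact pt
    exact ((s.E_inj (v := u) ort ort (l.ne_zero 0) (s.upi f.ker (E_sem ..) (E_sem ..) h')).choose_spec.2).symm
  have k₃ : ∀ v u w, v ≠ 0 → u ∉ Submodule.span F {v} → hf 1 u v = 0 → hf 1 w v = 0 → hf 1 u w = 0 →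
      y v * b u w * (y v)⁻¹ = b u w * (tv ρ v 0 * ev ρ u (a • w) 0) := fun v u w v0 n e₁ e₂ e₃ => by
    have l : ∀ w, w ∉ Submodule.span F {v, u} → LinearIndependent F ![v, u, w] := fun w i =>
      li3 v0 (fun a e => n (Submodule.mem_span_singleton.2 ⟨a, e.symm⟩)) fun a b e => i (Submodule.mem_span_pair.2 ⟨a, b, e.symm⟩)
    by_cases i : w ∈ Submodule.span F {v, u}
    swap
    · exact k₂ _ _ _ (l w i) e₁ e₂ e₃
    obtain ⟨p, j, p₁, p₂, p₃⟩ := out36 sy v u w (pair_dim v u)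
    have := hf_sw e₃; have := hf_sw p₂; have := hf_sw p₃
    simpa only [add_assoc, vv, add_zero] using ad 0 v u (w + p) p e₁ ort p₁ ort p₂ ort
      (k₂ _ _ _ (l _ fun e => j ((Submodule.add_mem_iff_right _ i).1 e)) e₁ ort ort) (k₂ _ _ _ (l p j) e₁ p₁ ort)
  refine ⟨a, fun v u w v0 e₁ e₂ e₃ => (?_ : _ = b u w * (tv ρ v 0 * ev ρ u (a • w) 0)).trans (by simp [tv])⟩
  by_cases i : u ∈ Submodule.span F {v}
  swap
  · exact k₃ v u w v0 i e₁ e₂ e₃
  obtain ⟨p, j, p₁, p₂, p₃⟩ := out36 sy v u w ((one_dim v).trans one_le_two)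
  have := hf_sw e₃; have := hf_sw p₂; have := hf_sw p₃
  refine sw v w u e₂ e₁ ort ?_
  simpa only [add_assoc, vv, add_zero] using ad 0 v w (u + p) p e₂ ort p₁ ort p₃ ort
    (sw _ _ _ ort e₂ ort (k₃ _ _ _ v0 (fun e => j ((Submodule.add_mem_iff_right _ i).1 e)) ort e₂ ort)) (sw _ _ _ p₁ e₂ p₃ (k₃ _ _ _ v0 j p₁ e₂ p₃))

theorem rel16 (e : Y0 ρ t y) (l : Ka ρ b y a) : a = 1 ∨ a = 0 ∧ ∃ a c d : F, ∀ u w, LinearIndependent F ![u, w] → hf 1 u w = 0 →
    y (u + w) = b u w * y u * y w * (tv ρ u a * tv ρ w c * ev ρ u (d • w) 0) := by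
  have s := sy.toSm
  have r := f.toRb
  obtain ⟨u, w, li, o⟩ : ∃ u w : Fin m → F, LinearIndependent F ![u, w] ∧ hf 1 u w = 0 := ⟨_, _, s.li01, s.b01⟩
  obtain ⟨p, j, p₁, p₂, -⟩ := out36 sy u w w ((one_dim u).trans one_le_two)
  have u0 : u ≠ 0 := li.ne_zero 0
  have w0 : w ≠ 0 := li.ne_zero 1
  have := hf_sw o; have := hf_sw p₁; have := hf_sw p₂
  have q := l (u + w) u p (fun e => one_ne_zero (LinearIndependent.pair_iff.1 li 1 1 (by simpa using e)).1) ort ort ort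
  have key : ∀ c : F, b u w * y u * y w * (b u p * ev ρ u (c • p) 0) * (b u w * y u * y w)⁻¹ = b u p * ev ρ u (c • p) 0 := fun c => by
    rw [cj2, cj2, conj_mul_conj (y w), l w u p w0 ort ort ort, e.ey s ort ort, conj_mul_conj (y u), conj_mul_conj (y u), l u u p u0 ort ort ort,
      e.ey s ort ort, e.ey s ort ort, mul_assoc (b u p), ee s, mul_one, conj_mul_conj, conj_eq_iff.2 (r.c1 s ort ort), r.be0 s ort ort ort ort ort]
  obtain ⟨a₁, a₂, d, h⟩ := f.rel s e o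
  have c : tv ρ u a₁ * tv ρ w a₂ * ev ρ u (d • w) 0 * b u p * (tv ρ u a₁ * tv ρ w a₂ * ev ρ u (d • w) 0)⁻¹ = b u p := by
    rw [cj2, cj2, conj_eq_iff.2 (r.eb s ort ort ort ort ort), conj_eq_iff.2 (r.eb s ort ort ort ort ort),
      conj_eq_iff.2 (r.eb s ort ort ort ort ort)]
  rcases h with h | h
  · have := key 0
    rw [zero_smul, ev, E_zero, up_one, mul_one] at this
    rw [h, cj2, c, this, left_eq_mul] at q
    refine .inr ⟨(f.w2 s (li_two u0 j) ort (a := 0) (c := 0) (by simp [q, tv])).2.2, a₁, a₂, d, fun u' w' li' o' => ?_⟩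
    obtain ⟨g, i, rfl, rfl⟩ := s.wittP li li' (o.trans o'.symm)
    rw [← (su_sem i).add, ← e.ye g i, h, conj_mul_conj, conj_mul_conj, conj_mul_conj, conj_mul_conj, conj_mul_conj, r.eqv g i _ _ o, e.ye g i,
      e.ye g i, Tc s i, Tc s i, Ec s i, (su_sem i).smul1]
  · have := key 1
    rw [one_smul] at this
    rw [h, cj2, c, cj2, f.tb s ort, this, mul_right_inj] at q
    have := (f.w2 s (li_two u0 j) ort (a := 0) (c := 0) (d := a + 1) (by
      rw [← ee (ρ := ρ) s u p 0]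
      conv_rhs => rhs; rw [q]
      clear key c h q this
      exact pt)).2.2
    exact .inl (by grind)

theorem ry06 (e : Y0 ρ t y) (l : Ka ρ b y 0) : ∃ y, Y0 ρ t y ∧ Ry ρ b y k := by
  have s := sy.toSm
  have r := f.toRb
  have cb := e.cb s l
  obtain ⟨a₁, a₂, d, h⟩ := ((f.rel16 sy e l).resolve_left zero_ne_one).2
  obtain ⟨κ, sq⟩ := f.sq0 s e
  obtain ⟨u, w, li, o, l₁, l₂⟩ : ∃ u w : Fin m → F, LinearIndependent F ![u, w] ∧ hf 1 u w = 0 ∧ LinearIndependent F ![w, u] ∧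
      LinearIndependent F ![u, u + w] := ⟨_, _, s.li01, s.b01, LinearIndependent.pair_symm_iff.1 s.li01,
    LinearIndependent.pair_iff.2 fun a c e => by
      have := LinearIndependent.pair_iff.1 s.li01 (a + c) c (by rw [← e]; module)
      grind⟩
  have o' := hf_sw o
  have h₁ := h u w li o
  have h₂ := h w u l₁ o'
  have h₃ := h u (u + w) l₂ ort
  have yb : ∀ v z, hf 1 u v = 0 → hf 1 w v = 0 → y v * (b u w * z) = b u w * (y v * z) := fun v z a c => by
    rw [← mul_assoc, cb v u w a c o, mul_assoc]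
  have sw : y w * y u = y u * y w * (tv ρ u (a₁ + a₂) * tv ρ w (a₁ + a₂) * ev ρ u w 0) := by
    rw [add_comm, h₁, r.sym u w o] at h₂
    simp only [mul_assoc, mul_right_inj, e.ey2 s, hs s, o, o'] at h₂
    refine mul_right_cancel (b := ev ρ u w 0 * (tv ρ w a₁ * (tv ρ u a₂ * ev ρ w (d • u) 0))) ?_
    rw [mul_assoc, ← h₂]
    clear h h₁ h₂ h₃ sq yb cb
    exact pt
  obtain ⟨e₁, -, e₂⟩ := f.w2 s li o (a := a₁ + a₂) (c := a₁ + a₂) (d := κ + 1) (by
    have q := sq (u + w)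
    rw [h₁] at q
    simp only [mul_assoc, e.ey2 s, r.eb' s, yb, cn (r.bb s o'), hs s, o, o'] at q
    rw [← mul_assoc (y w), sw] at q
    simp only [mul_assoc, e.ey2 s, hs s, o, o'] at q
    rw [← mul_assoc (y u), ← mul_assoc (y w), sq, sq] at q
    rw [← (congrArg (tv ρ (u + w) κ * ·) q).trans (ee s ..)]
    clear h h₁ h₂ h₃ sq yb cb sw q
    exact pt)
  obtain rfl : κ = 1 := by grind
  obtain rfl : a₁ = a₂ := by grind
  obtain rfl : a₁ = 0 := by
    rw [← add_assoc, vv, zero_add, h₁, add_comm u w, r.add2 s ort ort ort, r.bs] at h₃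
    simp only [mul_assoc, e.ey2 s, r.eb' s, yb, cn (r.bb s o'), hs s, o, o'] at h₃
    rw [← mul_assoc (y u), sq, e.ey2 s ort ort, left_eq_mul] at h₃
    refine (f.w2 s li o (c := 0) (d := a₁) (h₃ ▸ ?_)).1
    clear h h₁ h₂ h₃ sq yb cb sw
    exact pt
  clear h₁ h₂ h₃ yb sw e₁ e₂ li l₁ l₂ o o' u w
  obtain ⟨y', hy⟩ : ∃ y' : (Fin m → F) → G, ∀ v, y' v = y v * tv ρ v d := ⟨_, fun _ => rfl⟩
  have e' : Y0 ρ t y' := ⟨by simp [hy, e.zero, S1.T0], fun g i v => by rw [hy, hy, conj_mul_conj, e.ye g i, Tc s i],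
    fun v => by rw [hy, cj2, f.ct' s, e.tw]⟩
  have cb' : ∀ v u w, hf 1 u v = 0 → hf 1 w v = 0 → hf 1 u w = 0 → y' v * b u w = b u w * y' v := fun v u w a c o => by
    rw [hy, mul_assoc, r.eb s o a ort c ort, ← mul_assoc, cb v u w a c o, mul_assoc]
  have sq' : ∀ v, y' v * y' v = tv ρ v 1 := fun v => by rw [hy, mul_assoc, e.ey2 s ort ort, ee s, mul_one, sq]
  have pol : ∀ u w, u ≠ 0 → w ∉ Submodule.span F {u} → hf 1 u w = 0 → y' (u + w) = b u w * y' u * y' w := fun u w u0 n o => by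
    have := hf_sw o
    rw [hy, hy, hy, h u w (li_two u0 n) o]
    clear h sq sq' cb cb' hy
    simp only [mul_assoc, e.ey2 s, hs s, *]
    exact pt
  refine ⟨y', e', r, e'.zero, e'.ye, sq', fun u w o => ?_, cb'⟩
  by_cases u0 : u = 0
  · simp [u0, e'.zero, (r.b0 s w).2]
  by_cases w0 : w = 0
  · simp [w0, e'.zero, (r.b0 s u).1]
  by_cases uw : u + w = 0
  · obtain rfl := add_eq0.1 uw
    rw [uw, e'.zero, mul_assoc, sq', r.bs, ee s]
  obtain ⟨p, j, p₁, p₂, -⟩ := out36 sy u w w (pair_dim u w)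
  have m : ∀ v ∈ Submodule.span F {u, w}, Submodule.span F {v} ≤ Submodule.span F {u, w} := fun v => (Submodule.span_singleton_le_iff_mem _ _).2
  have hu : u ∈ Submodule.span F {u, w} := Submodule.subset_span (by simp)
  have hw : w ∈ Submodule.span F {u, w} := Submodule.subset_span (by simp)
  have := hf_sw o; have := hf_sw p₁; have := hf_sw p₂
  have q := pol u (w + p) u0 (fun e => j ((Submodule.add_mem_iff_right _ hw).1 (m u hu e))) ort
  rw [← add_assoc, pol _ p uw (fun e => j (m _ (add_mem hu hw) e)) ort, pol w p w0 (fun e => j (m w hw e)) ort, ← mul_assoc, mul_left_inj,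
    r.add1 s ort ort ort, r.add2 s ort ort ort, r.c1 s (n := w) ort ort, ← mul_assoc, mul_assoc _ (y' u) (b w p), cb' u w p ort ort ort,
    ← mul_assoc, mul_assoc (b u p) (b u w), r.c2 s (w := u) (n := w) ort ort ort ort ort ort] at q
  simpa only [mul_assoc, mul_right_inj] using q

theorem ry6 (i : x ∈ 𝐂(im ρ (Y 1 (bv 0)))) (e : x * t * x⁻¹ = t * tv ρ (bv 0) 1) : ∃ y, Y0 ρ t y ∧ Ry ρ b y k := by
  classical
  have s := sy.toSm
  obtain ⟨y, h, -⟩ := f.y06 sy i e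
  obtain ⟨a, l⟩ := f.ka6 sy h
  rcases f.rel16 sy h l with rfl | ⟨rfl, -⟩
  swap
  · exact f.ry06 sy h l
  refine f.ry06 sy (y := fun v => if v = 0 then 1 else y v * t) ⟨if_pos rfl, fun g i v => ?_, fun v => ?_⟩ fun v u w v0 e₁ e₂ e₃ => ?_
  · by_cases v0 : v = 0
    · simp [v0, (su_sem i).zero]
    · rw [if_neg v0, if_neg ((su_sem i).ne v0), conj_mul_conj, h.ye g i, f.ct' s]
  · by_cases v0 : v = 0
    · simp [v0, S1.T0]
    · rw [if_neg v0, cj2, mul_inv_cancel_right, h.tw]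
  · simp only [if_neg v0]
    rw [cj2, f.tb s e₃, conj_mul_conj, l v u w v0 e₁ e₂ e₃, h.ey s (hf_sw e₁) (hf_sw e₂), one_smul, mul_assoc, ee s, zero_smul, ev, E_zero, up_one]

theorem nor6 (e : Y0 ρ t y) (r : Ry ρ b y k) : 𝐂₁(t) ≤ 𝐍(ρ.range ⊔ closure (Set.range y)) := fun h i => by
  have s := sy.toSm
  obtain ⟨ξ, ⟨θ, o⟩, j⟩ := f.ind h i
  have c : h * t * h⁻¹ = t := conj_eq_iff.2 (mem_c1.1 i)
  have hT : ∀ v, h * tv ρ v 1 * h⁻¹ = tv ρ (ξ v) 1 := fun v => by rw [j _ (tv_SU _ _), tv_cj o, map_one]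
  refine mem_normalizer_of_cj_le ((cj_sup ..).trans_le (sup_le ((cj_eq_self (j.nor o)).trans_le le_sup_left)
    (map_le_iff_le_comap.2 ((closure_le _).2 ?_))))
  rintro _ ⟨v, rfl⟩
  change h * y v * h⁻¹ ∈ ρ.range ⊔ closure (Set.range y)
  by_cases v0 : v = 0
  · simp [v0, e.zero]
  obtain ⟨g, l, d | d⟩ := f.cY' s (s.ti_one (ξ v)) (x := h * y v * h⁻¹) (z := y (ξ v))
    (by conv_lhs => rw [← c, ← cj3, e.tw, conj_mul_conj, c, hT, ← e.tw]) fun p a => by
      obtain ⟨p, rfl⟩ := ξ.surjective p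
      have a := a _ (Submodule.mem_span_singleton_self _)
      refine ⟨?_, e.ey s a ort⟩
      rw [o.form, map_eq_zero] at a
      rw [← hT, ← cj3, e.ey s a ort]
  · exact d ▸ mul_mem (mem_sup_right (subset_closure ⟨_, rfl⟩)) (mem_sup_left (up_range _))
  obtain ⟨a, rfl⟩ := s.W1 l
  have q : h * y v * h⁻¹ * (h * y v * h⁻¹) = tv ρ (ξ v) 1 := by rw [← conj_mul_conj, r.sq, hT]
  rw [d, mul_assoc, mul_assoc, mul_assoc, e.ey2 s ort ort, ← mul_assoc (ev ..), S1.cL f.cm, mul_assoc t (ev ..), ee s, mul_one, ← mul_assoc t,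
    f.yt s e, mul_assoc, mul_assoc, S1.cL f.cm, cn f.t2, ← mul_assoc, r.sq, mul_eq_left] at q
  exact absurd (f.t1' s (o.ne v0) q) one_ne_zero

end CB

end CF.Dq
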