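import Cfsg.Agent.Ud.B2

/-! Unitary groups in characteristic two including `U₆(2)`: forms and automorphisms. -/

set_option autoImplicit false
set_option linter.unusedSectionVars false
set_option linter.unusedVariables false

namespace CF.Ud
/-- field and dimension, `U₆(2)` included -/
structure D6 {K : Type} [Field K] [CharP K 2] (σ : K ≃+* K) (q m : ℕ) : Prop extends Fd σ q where
  hm : 6 ≤ m
end CF.Ud

namespace CF.Ud
open Subgroup Equiv CF.Geom Module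
variable {K : Type} [Field K] [Fintype K] [CharP K 2] {m q : ℕ} {σ θ : K ≃+* K} {a b c : K}
  {g p ξ : Perm (Fin m → K)} {u v w x y e n u' v' : Fin m → K} {T T' : Submodule K (Fin m → K)}
namespace D6
variable (d : D6 σ q m)
include d
theorem mem_SU : g ∈ SU σ m ↔ Sem σ 1 g ∧ dt σ g = 1 := d.toFd.mem_SU (by have := d.hm; omega)
theorem two_SU (l : Sem σ 1 g) (e : E2 g) : g ∈ SU σ m := d.mem_SU.2 ⟨l, by
  obtain ⟨j, e⟩ := e
  exact d.norm_two (d.dt_nrm l) (j := j) (by rw [← dt_pow l, e, dt_one])⟩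
theorem witt0 {r : ℕ} {u v : Fin r → Fin m → K} (hu : LinearIndependent K u) (hv : LinearIndependent K v)
    (e : ∀ i j, hf σ (u i) (u j) = hf σ (v i) (v j)) : ∃ g ∈ GU σ m, ∀ i, g (u i) = v i := d.toFd.witt0 hu hv e
theorem fix_an (l : Sem σ 1 g) (he : hf σ e e ≠ 0) : ∃ r ∈ GU σ m, (∀ x, hf σ x e = 0 → r x = x) ∧ r * g ∈ SU σ m := by
  have n := d.dt_nrm l
  have s := d.sy e e
  let r := uRank1 d.herm e ((σ (dt σ g) + 1) / hf σ e e) (by
    simp only [sq_ap, RingHom.coe_coe, map_div₀, map_add, map_one, s, d.iv _]; field_simp; grind)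
  refine ⟨pm σ m r, pm_sem r, fun x h => by simp [r, pm_ap, uRank1_apply, sq_ap, h], d.mem_SU.2 ⟨(pm_sem r).mul1 l, ?_⟩⟩
  rw [dt_mul (pm_sem r) l, dt_pm, det_uRank1, sq_ap, div_mul_cancel₀ _ he]; grind
theorem fix_hyp (l : Sem σ 1 g) (hu : hf σ u u = 0) (hv : hf σ v v = 0) (e : hf σ u v = 1) : ∃ r ∈ GU σ m, ∃ c : K,
    c * σ c = 1 ∧ (∀ x, hf σ x u = 0 → hf σ x v = 0 → r x = x) ∧ r u = c • u ∧ r v = c • v ∧ r * g ∈ SU σ m := by
  have n := d.dt_nrm l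
  obtain ⟨c, h⟩ := exists_rt (σ (dt σ g))
  have h1 : c * σ c = 1 := sq_inj (by rw [mul_mul_mul_comm, ← map_mul, h, d.iv, mul_comm, n, one_mul])
  have h2 : (σ c)⁻¹ = c := inv_eq_of_mul_eq_one_left h1
  let r := uDil d.herm hv hu e (Units.mkOfMulEqOne c _ h1)
  refine ⟨pm σ m r, pm_sem r, c, h1, fun x a b => uDil_of_perp d.herm hv hu e _ b a, (uDil_right d.herm hv hu e _).trans (congrArg (· • u) h2),
    uDil_left d.herm hv hu e _, d.mem_SU.2 ⟨(pm_sem r).mul1 l, ?_⟩⟩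
  rw [dt_mul (pm_sem r) l, dt_pm, show LinearMap.det (r.1 : (Fin m → K) →ₗ[K] _) = _ from det_uDil d.herm hv hu e _]
  change c * (σ c)⁻¹ * _ = 1
  rw [h2, h, mul_comm, n]
theorem E_SU (v n : Fin m → K) (a : K) : E σ v n a ∈ SU σ m := d.two_SU (E_sem ..) ⟨2, by
  by_cases o : Ok σ v n a
  · rw [show 2 ^ 2 = 2 * 2 from rfl, pow_mul, _root_.sq, _root_.sq, E_sq o, tv_sq]
  · simp [E_junk o]⟩
theorem ti_le (l : Ti σ T) : finrank K T ≤ m / 2 := d.toFd.ti_le l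
end D6
end CF.Ud

namespace CF.Ud
open Subgroup Equiv CF.Geom Module CF.Loc CF.LX
open scoped commutatorElement
variable {K : Type} [Field K] [Fintype K] [CharP K 2] {m q : ℕ} {σ θ : K ≃+* K} {a b c : K}
  {g p ξ : Perm (Fin m → K)} {u v w x y e n u' v' : Fin m → K} {T T' S : Submodule K (Fin m → K)}
  {H P : Subgroup (Perm (Fin m → K))}
namespace D6
variable (d : D6 σ q m)
include d
theorem dual {r : ℕ} {u : Fin r → Fin m → K} (hu : LinearIndependent K u) (c : Fin r → K) : ∃ n, ∀ i, hf σ (u i) n = c i :=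
  d.toFd.dual hu c
theorem dual_iso {r : ℕ} {u : Fin r → Fin m → K} (hu : LinearIndependent K u) (e : ∀ i j, hf σ (u i) (u j) = 0) (c : Fin r → K) :
    ∃ n, hf σ n n = 0 ∧ ∀ i, hf σ (u i) n = c i := d.toFd.dual_iso hu e c
theorem hyp (u v : Fin m → K) (c : K) : ∃ w w', w ∉ Submodule.span K {u, v} ∧ hf σ w w = 0 ∧ hf σ w' w' = 0 ∧
    hf σ w u = 0 ∧ hf σ w v = 0 ∧ hf σ w' u = 0 ∧ hf σ w' v = 0 ∧ hf σ w w' = c := by
  have := pair_dim u v
  have := Submodule.finrank_mono (inf_le_left : Submodule.span K {u, v} ⊓ pp σ (Submodule.span K {u, v}) ≤ _)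
  obtain ⟨w, w', a, b, c, e, f, k⟩ := d.hyp_out (S := Submodule.span K {u, v}) (by have := d.hm; omega) c
  exact ⟨w, w', a, b, c, e _ (Submodule.subset_span (by simp)), e _ (Submodule.subset_span (by simp)),
    f _ (Submodule.subset_span (by simp)), f _ (Submodule.subset_span (by simp)), k⟩
theorem out (u v : Fin m → K) : ∃ w, w ∉ Submodule.span K {u, v} ∧ hf σ w w = 0 ∧ hf σ w u = 0 ∧ hf σ w v = 0 :=
  let ⟨w, _, a, b, _, c, e, _⟩ := d.hyp u v 0; ⟨w, a, b, c, e⟩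
theorem out' (u0 : u ≠ 0) (v0 : v ≠ 0) : ∃ w, LinearIndependent K ![u, w] ∧ LinearIndependent K ![v, w] ∧
    hf σ w w = 0 ∧ hf σ w u = 0 ∧ hf σ w v = 0 :=
  let ⟨w, a, b⟩ := d.out u v
  ⟨w, li_two u0 fun k => a (Submodule.span_mono (by simp) k), li_two v0 fun k => a (Submodule.span_mono (by simp) k), b⟩
theorem exists_perp (u v : Fin m → K) : ∃ w, w ≠ 0 ∧ hf σ w w = 0 ∧ hf σ u w = 0 ∧ hf σ v w = 0 :=
  let ⟨w, a, b, c, e⟩ := d.out u v; ⟨w, fun z => a (z ▸ zero_mem _), b, d.sw c, d.sw e⟩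
theorem span_iso' {p : (Fin m → K) → Prop} (add : ∀ x y, p x → p y → p (x + y))
    (iso : ∀ x, hf σ x x = 0 → hf σ x u = 0 → hf σ x v = 0 → p x) (hx : hf σ x u = 0) (hx' : hf σ x v = 0) : p x := by
  obtain ⟨b, k⟩ := d.trc (d.sy x x)
  have key : ∀ x w, hf σ x u = 0 → hf σ x v = 0 → hf σ w w = 0 → hf σ w u = 0 → hf σ w v = 0 → hf σ w x ≠ 0 → p x :=
    fun x w hx hx' i a c z => by
    obtain ⟨b, k⟩ := d.trc (d.sy x x)
    have := add _ _ (iso (x + (b / hf σ w x) • w) ?_ (by simp [*]) (by simp [*])) (iso ((b / hf σ w x) • w) (by simp [*])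
      (by simp [*]) (by simp [*]))
    · rwa [add_assoc, vv, add_zero] at this
    have : σ (hf σ w x) ≠ 0 := by simpa using z
    simp only [hf_add_l, hf_add_r, hf_smul_l, hf_smul_r, i, ← d.sy w x, map_div₀, ← k]; field_simp; grind
  obtain ⟨w, w', -, i, i', a, b, a', b', e⟩ := d.hyp u v 1
  by_cases z : hf σ w x = 0
  · have := add _ _ (key (x + w') w (by simp [*]) (by simp [*]) i a b (by simp [*])) (iso w' i' a' b')
    rwa [add_assoc, vv, add_zero] at this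
  · exact key x w hx hx' i a b z
theorem span_iso1 {p : (Fin m → K) → Prop} (add : ∀ x y, p x → p y → p (x + y))
    (iso : ∀ x, hf σ x x = 0 → hf σ x v = 0 → p x) (hx : hf σ x v = 0) : p x := d.span_iso' add (fun x a _ => iso x a) hx hx
theorem span_iso0 {p : (Fin m → K) → Prop} (add : ∀ x y, p x → p y → p (x + y)) (iso : ∀ x, hf σ x x = 0 → p x) (x : Fin m → K) :
    p x := d.span_iso1 (v := 0) add (fun x a _ => iso x a) (by simp)
theorem wittS {ι : Type*} {u v : ι → Fin m → K} (hu : LinearIndependent K u) (hv : LinearIndependent K v)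
    (f : ∀ i j, hf σ (u i) (u j) = hf σ (v i) (v j)) (he : hf σ e e ≠ 0) (k : ∀ i, hf σ (v i) e = 0) : ∃ g ∈ SU σ m, ∀ i, g (u i) = v i := by
  obtain ⟨g, a, b⟩ := d.toFd.witt0 hu hv f
  obtain ⟨r, -, l, n⟩ := d.fix_an a he
  exact ⟨r * g, n, fun i => by rw [Perm.mul_apply, b, l _ (k i)]⟩
theorem wittR {r : ℕ} {u v : Fin r → Fin m → K} (hr : r + m / 2 < m) (hu : LinearIndependent K u) (hv : LinearIndependent K v)
    (f : ∀ i j, hf σ (u i) (u j) = hf σ (v i) (v j)) : ∃ g ∈ SU σ m, ∀ i, g (u i) = v i := by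
  have := d.pp_dim (Submodule.span K (Set.range v))
  have := span_dim v
  obtain ⟨e, a, b⟩ := d.an_mem (T := pp σ (Submodule.span K (Set.range v))) (by omega)
  exact d.wittS hu hv f b fun i => d.sw (a _ (Submodule.subset_span ⟨i, rfl⟩))
theorem witt1 (hu : hf σ u u = 0) (u0 : u ≠ 0) (hv : hf σ v v = 0) (v0 : v ≠ 0) : ∃ g ∈ SU σ m, g u = v := by
  obtain ⟨g, a, b⟩ := d.wittR (u := ![u]) (v := ![v]) (by have := d.hm; omega) (by simpa) (by simpa) (by simp [*])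
  exact ⟨g, a, b 0⟩
theorem witt2 (hu : LinearIndependent K ![u, u']) (hv : LinearIndependent K ![v, v']) (e : hf σ u u = hf σ v v)
    (e' : hf σ u' u' = hf σ v' v') (f : hf σ u u' = hf σ v v') : ∃ g ∈ SU σ m, g u = v ∧ g u' = v' := by
  obtain ⟨g, a, b⟩ := d.wittR (by have := d.hm; omega) hu hv (by simp [Fin.forall_fin_two, ← d.sy u u', ← d.sy v v', *])
  exact ⟨g, a, b 0, b 1⟩
theorem b00 : hf σ (bv 0 : Fin m → K) (bv 0) = 0 := hf_Vf (bv_mem one_pos) (bv_mem one_pos) (by have := d.hm; omega)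
theorem b0 : (bv 0 : Fin m → K) ≠ 0 := bv_ne (by have := d.hm; omega)
theorem bll : hf σ (bv (m - 1) : Fin m → K) (bv (m - 1)) = 0 := by have := d.hm; rw [hf_bb (by omega), if_neg (by omega)]
theorem b0l : hf σ (bv 0 : Fin m → K) (bv (m - 1)) = 1 := by have := d.hm; rw [hf_bb (by omega), if_pos (by omega)]
theorem bl0 : hf σ (bv (m - 1) : Fin m → K) (bv 0) = 1 := by have := d.hm; rw [hf_bb (by omega), if_pos (by omega)]
theorem wittX (l : Ti σ T) : ∃ g ∈ SU σ m, ∀ x, x ∈ T ↔ g x ∈ Vf K m (finrank K T) := by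
  have hm := d.hm
  have h := d.ti_le l
  obtain ⟨u, a, b, c⟩ := exists_li_mem T rfl
  obtain ⟨g, i, k⟩ := d.witt0 a (li_bv (m := m) (by omega)) fun i j => (l _ (b i) _ (b j)).trans
    (Vf_ti h _ (bv_mem i.2) _ (bv_mem j.2)).symm
  obtain ⟨r, -, c', -, f, r0, -, s⟩ := d.fix_hyp i d.b00 d.bll d.b0l
  have : T.map (lin (su_sem s)) = Vf K m (finrank K T) := by
    refine Submodule.eq_of_le_of_finrank_eq ?_ ?_
    · nth_rw 1 [← c]
      rw [Submodule.map_span, Submodule.span_le]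
      rintro _ ⟨_, ⟨j, rfl⟩, rfl⟩
      rw [lin_ap, Perm.mul_apply, k]
      by_cases z : j.val = 0
      · rw [z, r0]; exact Submodule.smul_mem _ _ (bv_mem (z ▸ j.2))
      · have := j.2
        rw [f _ (by rw [hf_bb (by omega), if_neg (by omega)]) (by rw [hf_bb (by omega), if_neg (by omega)])]; exact bv_mem j.2
    · rw [Vf_dim (by omega)]; exact ((T.equivMapOfInjective _ (r * g).injective).finrank_eq).symm
  refine ⟨_, s, fun x => ⟨fun h => this ▸ ⟨x, h, rfl⟩, fun h => ?_⟩⟩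
  obtain ⟨y, e, e'⟩ := this.ge h
  exact (r * g).injective e' ▸ e
/-- a semilinear isometry stabilising all isotropic points is scalar -/
theorem sc_iso (l : Sem σ θ ξ) (h : ∀ v, hf σ v v = 0 → ∃ c : K, ξ v = c • v) :
    θ = 1 ∧ ∃ c : K, c * σ c = 1 ∧ ∀ x, ξ x = c • x := by
  obtain ⟨c, e⟩ := h _ d.b00
  have k : ∀ u w (a b : K), LinearIndependent K ![u, w] → hf σ u u = 0 → hf σ w w = 0 → hf σ w u = 0 → ξ u = a • u → ξ w = b • w →
      a = b := fun u w a b i p r s t t' => by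
    obtain ⟨c, e⟩ := h (u + w) (by simp [d.sw s, *])
    rw [l.add, t, t', smul_add] at e
    exact (li_eq i e).1.trans (li_eq i e).2.symm
  have f : ∀ x, ξ x = c • x := d.span_iso0 (fun x y a b => by rw [l.add, a, b, smul_add]) fun v i => by
    by_cases z : v = 0
    · simp [z, l.zero]
    obtain ⟨w, h1, h2, h3, h4, h5⟩ := d.out' d.b0 z
    obtain ⟨a, s⟩ := h v i
    obtain ⟨b, t⟩ := h w h3
    rw [s, k _ _ _ _ h1 d.b00 h3 h4 e t, k _ _ _ _ h2 i h3 h5 s t]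
  have c0 : c ≠ 0 := fun z => l.ne d.b0 (by simp [f, z])
  have t : θ = 1 := RingEquiv.ext fun a => by
    have := l.smul a (bv 0)
    rw [f, f, smul_comm] at this
    exact (smul_left_injective K (smul_ne_zero c0 d.b0) this).symm
  subst t
  exact ⟨rfl, c, by simpa [f, d.b0l, mul_comm] using l.form1 (bv 0) (bv (m - 1)), f⟩
theorem tv_comm (hv : hf σ v v = 0) (e : σ a = a) (u : Fin m → K) : ∃ n n', hf σ n n = 0 ∧ hf σ n' n' = 0 ∧ hf σ n u = 0 ∧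
    hf σ n v = 0 ∧ hf σ n' u = 0 ∧ hf σ n' v = 0 ∧ E σ v 0 a = ⁅E σ v n 0, E σ v n' 0⁆ := by
  obtain ⟨c, k⟩ := d.trc e
  obtain ⟨w, w', -, h1, h2, h3, h4, h5, h6, h7⟩ := d.hyp u v c
  exact ⟨w, w', h1, h2, h3, h4, h5, h6, by rw [E_comm (ok_iso d.iv hv h1 h4) (ok_iso d.iv hv h2 h6), ← d.sy w w', h7, k]⟩
theorem su_perf : SU σ m ≤ ⁅SU σ m, SU σ m⁆ := SU_iso d.iv fun v a hv e => by
  obtain ⟨n, n', -, -, -, -, -, -, k⟩ := d.tv_comm hv e v
  exact k ▸ commutator_mem_commutator (d.E_SU _ _ _) (d.E_SU _ _ _)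
end D6
end CF.Ud

namespace CF.Ud
open Subgroup Equiv CF.Geom Module CF.Loc CF.LX
open scoped commutatorElement Matrix MatrixGroups
variable {K : Type} [Field K] [Fintype K] [CharP K 2] {m q : ℕ} {σ θ θ' : K ≃+* K} {a b c : K}
  {g p ξ ξ' : Perm (Fin m → K)} {u v w x y : Fin m → K} {H P : Subgroup (Perm (Fin m → K))}
  {G X : Type*} [Group G] [Finite G] [Group X] [Finite X] {ρ ρ₁ ρ₂ : SU σ m →* G} {ρ' : SU σ m →* X} {t h h' : G}
namespace D6
variable (d : D6 σ q m)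
include d
theorem tv_inj (hu : hf σ u u = 0) (hv : hf σ v v = 0) (ha : σ a = a) (hb : σ b = b) (a0 : a ≠ 0) (u0 : u ≠ 0)
    (e : E σ u 0 a = E σ v 0 b) : ∃ c : K, v = c • u ∧ c * σ c * b = a := by
  obtain ⟨y, -, k, -⟩ := d.partner hu u0
  have f := congrArg (· y) e
  simp only [E_ap (ok_tv d.iv hu ha), E_ap (ok_tv d.iv hv hb), k, smul_zero, add_zero, hf_zero_r, zero_add, mul_one, add_right_inj] at f
  have z : b * hf σ y v ≠ 0 := fun z => smul_ne_zero a0 u0 (by rw [f, z, zero_smul])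
  obtain ⟨c, rfl⟩ : ∃ c : K, v = c • u := ⟨(b * hf σ y v)⁻¹ * a, by rw [mul_smul, f, inv_smul_smul₀ z]⟩
  refine ⟨c, rfl, smul_left_injective K u0 ?_⟩
  simp only [f, hf_smul_r, k, smul_smul]; ring_nf
theorem tv_ne (hu : hf σ u u = 0) (u0 : u ≠ 0) (ha : σ a = a) (a0 : a ≠ 0) : E σ u 0 a ≠ 1 := fun e => by
  obtain ⟨c, -, k⟩ := d.tv_inj hu hu ha (map_zero σ) a0 u0 (e.trans (E_zero u).symm)
  exact a0 (by simpa using k.symm)
theorem sc_fix (e : Sc g) (v0 : v ≠ 0) (f : g v = v) : g = 1 := by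
  obtain ⟨c, e⟩ := e
  have : c = 1 := smul_left_injective K v0 (by simpa [e] using f)
  exact Equiv.ext fun x => by simp [e, this]
theorem sc_of (l : ξ ∈ Gam σ m) (e : ∀ g ∈ SU σ m, Sc (ξ * g * ξ⁻¹ * g⁻¹)) : Sem σ 1 ξ ∧ ∃ c : K, c * σ c = 1 ∧ ∀ x, ξ x = c • x := by
  obtain ⟨θ, l⟩ := l
  obtain ⟨rfl, k⟩ := d.sc_iso l fun v hv => by
    by_cases v0 : v = 0
    · exact ⟨0, by simp [v0, l.zero]⟩
    obtain ⟨w, w0, -, a, b⟩ := d.exists_perp v (ξ v)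
    have := e _ (tv_SU v 1)
    rw [tv_cj l, E_inv (ok_tv d.iv hv (map_one σ)), map_one, map_one] at this
    have := d.sc_fix this w0 (by rw [Perm.mul_apply, E_fix (d.sw a) (by simp), E_fix (d.sw b) (by simp)])
    rw [mul_eq_one_iff_eq_inv, E_inv (ok_tv d.iv hv (map_one σ)), map_one] at this
    exact (d.tv_inj hv (by rw [l.form, hv, map_zero]) (map_one σ) (map_one σ) one_ne_zero v0 this.symm).imp fun _ => And.left
  exact ⟨l, k⟩
theorem sc_sem (l : Sem σ θ ξ) (e : Sc ξ) : θ = 1 ∧ ∃ c : K, c * σ c = 1 ∧ ∀ x, ξ x = c • x :=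
  d.sc_iso l fun v _ => e.imp fun _ e => e v
theorem sc_odd (l : ξ ∈ Gam σ m) (e : Sc ξ) : ξ ^ (q + 1) = 1 := by
  obtain ⟨-, c, n, e⟩ := d.sc_sem l.choose_spec e
  have : ∀ j x, (ξ ^ j) x = c ^ j • x := fun j x => by
    induction j with
    | zero => simp
    | succ j ih => rw [pow_succ', Perm.mul_apply, ih, e, smul_smul, pow_succ']
  exact Equiv.ext fun x => by simp [this, (d.odd n).2]
theorem oddq : Odd (q + 1) := (d.odd (c := 1) (by simp)).1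
theorem sc_two (l : ξ ∈ Gam σ m) (e : Sc ξ) (e2 : E2 ξ) : ξ = 1 := e2.odd d.oddq (d.sc_odd l e)
theorem cen_sc (l : ξ ∈ Gam σ m) (e : ξ ∈ 𝐂(SU σ m)) : Sc ξ :=
  let ⟨_, c, _, k⟩ := d.sc_of l fun g k => by rw [← mem_centralizer_iff'.1 e g k]; simpa using sc_one
  ⟨c, k⟩
theorem center_iff {g : SU σ m} : g ∈ center (SU σ m) ↔ Sc g.1 :=
  ⟨fun e => d.cen_sc (GU_le (SU_le g.2)) (mem_centralizer_iff'.2 fun k l => congrArg Subtype.val (mem_center_iff.1 e ⟨k, l⟩)),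
    fun e => mem_center_iff.2 fun k => Subtype.ext (sc_comm e (su_sem k.2)).symm⟩
theorem bridge : ∃ e : (Fin m → K) ≃ₗ[K] (Fin m → K), (∀ x y, Cfsg.hermForm m K q (e x) (e y) = hf σ x y) ∧
    ∃ f : SU σ m ≃* Cfsg.SU m K q, ∀ g x, e (g.1 x) = (f g).1.1 *ᵥ e x := by
  obtain ⟨e, k⟩ := exists_equiv_hermSesq (d.herm (m := m)).ne_id d.iv d.herm.symm d.ndg finrank_V
  have hσ : ∀ x, (σ : K →+* K) x = x ^ q := d.pw
  let c : UG (sq σ m) ≃* UG (hermSesq (Fin m) (σ : K →+* K)) := isomCongr e k fun x => k x x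
  let ψ := (pm σ m).comp (c.symm.toMonoidHom.comp (suToUG m hσ))
  have i : Function.Injective ψ := (show Function.Injective (pm σ m) from fun a b h => Subtype.ext (LinearEquiv.toEquiv_injective h)).comp
    (c.symm.injective.comp (suToUG_injective m hσ))
  have r : SU σ m = ψ.range := by
    ext g
    rw [d.mem_SU, MonoidHom.range_comp, MonoidHom.range_comp, suToUG_range]
    refine ⟨fun ⟨a, b⟩ => ?_, ?_⟩
    · obtain ⟨g, rfl⟩ := a.pm
      exact ⟨g, ⟨c g, mem_suSub.2 ((det_isomCongr e k _ g).trans ((dt_pm g).symm.trans b)), c.symm_apply_apply g⟩, rfl⟩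
    · rintro ⟨_, ⟨g, a, rfl⟩, rfl⟩
      obtain ⟨g, rfl⟩ := c.surjective g
      exact ⟨pm_sem _, (congrArg (fun x => dt σ (pm σ m x)) (c.symm_apply_apply g)).trans ((dt_pm g).trans
        ((det_isomCongr e k _ g).symm.trans (mem_suSub.1 a)))⟩
  refine ⟨e, fun x y => (hermForm_eq hσ _ _).trans (k y x), (MulEquiv.subgroupCongr r).trans (MonoidHom.ofInjective i).symm,
    fun g x => ?_⟩
  have := MonoidHom.apply_ofInjective_symm i (MulEquiv.subgroupCongr r g)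
  rw [show g.1 = _ from this.symm]
  exact e.apply_symm_apply _
theorem perf : _root_.commutator (SU σ m) = ⊤ := by
  apply map_injective (SU σ m).subtype_injective
  rw [map_subtype_commutator, ← MonoidHom.range_eq_map, range_subtype]
  exact le_antisymm (commutator_le_self _) d.su_perf
theorem qs : Cfsg.IsQuasisimple (SU σ m) := by
  obtain ⟨-, -, f, -⟩ := d.bridge
  have := Cfsg.Agent.S0283.result d.card' m (by have := d.hm; omega) (by have := d.hm; omega)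
  exact ⟨⟨d.perf⟩, (CF.Classical.quotientCenterEquiv f).isSimpleGroup⟩
theorem su_simple (l : H ≤ SU σ m) (n : SU σ m ≤ 𝐍(H)) : (∀ g ∈ H, Sc g) ∨ H = SU σ m :=
  (Sig.qs_eq_or_le_centralizer d.qs l n).symm.imp_left fun e g k => d.cen_sc (GU_le (SU_le (l k))) (e k)
theorem exists_equiv : ∃ f : SU σ m ≃* Cfsg.SU m K q, ∀ β : MulAut (Cfsg.PSU m K q), ∃ ξ ∈ Gam σ m, ∀ g g' : SU σ m,
    (g' : Perm (Fin m → K)) = ξ * g * ξ⁻¹ → β (QuotientGroup.mk (f g)) = QuotientGroup.mk (f g') := by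
  obtain ⟨e, k, f, l⟩ := d.bridge
  refine ⟨f, fun β => ?_⟩
  obtain ⟨δ, φ, θ, ⟨M, hM, h1⟩, h2, rfl⟩ := Known.psu_decomp d.card' (by have := d.hm; omega) (by have := d.hm; omega) β
  let ξ : Perm (Fin m → K) := e.toEquiv.trans ((Equiv.piCongrRight fun _ => θ.toEquiv).trans ((glEquiv _ K M).toEquiv.trans e.symm.toEquiv))
  have hξ : ∀ x, e (ξ x) = M.1 *ᵥ (θ ∘ e x) := fun x => e.apply_symm_apply _
  refine ⟨ξ, ⟨θ, fun x y => e.injective ?_, fun c x => e.injective ?_, fun x y => ?_, d.com θ⟩, fun g g' r => ?_⟩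
  · rw [map_add e, hξ, hξ, hξ, ← Matrix.mulVec_add]; congr 1; ext; simp
  · rw [map_smul e, hξ, hξ, ← Matrix.mulVec_smul]; congr 1; ext; simp
  · rw [← k, hξ, hξ, mem_GU.1 hM, CF.Classical.hermForm_comp, k]
  rw [MulAut.mul_apply, h2 _ (CF.Classical.suCongr θ m q (f g)) rfl]
  refine h1 _ _ (matrix_eq_iff_mulVec.2 fun v => ?_)
  obtain ⟨v, rfl⟩ := e.surjective v
  obtain ⟨v, rfl⟩ := ξ.surjective v
  rw [← l, r, Perm.mul_apply, Perm.mul_apply, show ξ⁻¹ (ξ v) = v from ξ.symm_apply_apply v, hξ, hξ, Matrix.mulVec_mulVec, mul_assoc, ← Units.val_mul,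
    inv_mul_cancel, Units.val_one, mul_one, ← Matrix.mulVec_mulVec, l]
  congr 1; ext i; exact RingHom.map_mulVec (θ : K →+* K) _ _ i
theorem exists_aut (β : MulAut (SU σ m ⧸ center (SU σ m))) : ∃ ξ ∈ Gam σ m, ∀ g g' : SU σ m,
    (g' : Perm (Fin m → K)) = ξ * g * ξ⁻¹ → β (QuotientGroup.mk g) = QuotientGroup.mk g' := by
  obtain ⟨f, k⟩ := d.exists_equiv
  let c := CF.Classical.quotientCenterEquiv f
  obtain ⟨ξ, l, e⟩ := k (c.symm.trans (β.trans c))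
  exact ⟨ξ, l, fun g g' r => c.injective ((congrArg (fun x => c (β x)) (c.symm_apply_apply _).symm).trans (e g g' r))⟩
theorem cen_iff (k : Ker ρ) (l : g ∈ SU σ m) : up ρ g ∈ 𝐂(ρ.range) ↔ Sc g := by
  refine ⟨fun e => ?_, fun e => mem_centralizer_iff'.2 fun x i => ?_⟩
  · obtain ⟨-, c, -, f⟩ := d.sc_of (GU_le (SU_le l)) fun p i => k _ (mul_mem ((su_sem l).su i) (inv_mem i)) (by
      rw [up_mul ((su_sem l).su i) (inv_mem i), up_cj l i, up_inv i, ← mem_centralizer_iff'.1 e _ (up_range p)]; simp)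
    exact ⟨c, f⟩
  · obtain ⟨p, j, rfl⟩ := mem_range_up.1 i
    rw [← up_mul j l, ← up_mul l j, sc_comm e (su_sem j)]
theorem psu (k : Ker ρ) {L : Subgroup G} (e : ρ.range = L) : ∃ φ : (SU σ m ⧸ center (SU σ m)) ≃* (L ⧸ center L),
    ∀ g (h : ρ g ∈ L), φ (QuotientGroup.mk g) = QuotientGroup.mk ⟨ρ g, h⟩ := by
  subst e
  let f := (QuotientGroup.mk' (center ρ.range)).comp ρ.rangeRestrict
  have s : Function.Surjective f := (QuotientGroup.mk'_surjective _).comp ρ.rangeRestrict_surjective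
  have e : center (SU σ m) = f.ker := Subgroup.ext fun g => by
    rw [d.center_iff, ← d.cen_iff k g.2, up_coe, MonoidHom.mem_ker, MonoidHom.comp_apply, QuotientGroup.mk'_apply,
      QuotientGroup.eq_one_iff, mem_center_iff, mem_centralizer_iff']
    exact ⟨fun e x => Subtype.ext (e x x.2), fun e x i => congrArg Subtype.val (e ⟨x, i⟩)⟩
  exact ⟨(QuotientGroup.quotientMulEquivOfEq e).trans (QuotientGroup.quotientKerEquivOfSurjective f s), fun _ _ => rfl⟩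
theorem ind2 (k₁ : Ker ρ₁) (k₂ : Ker ρ₂) (e : ρ₁.range = ρ₂.range) :
    ∃ ξ ∈ Gam σ m, ∀ g ∈ SU σ m, up ρ₂ g = up ρ₁ (ξ * g * ξ⁻¹) := by
  obtain ⟨φ₁, h₁⟩ := d.psu k₁ e
  obtain ⟨φ₂, h₂⟩ := d.psu k₂ rfl
  obtain ⟨ξ, ⟨θ, l⟩, r⟩ := d.exists_aut (φ₂.trans φ₁.symm)
  let c : SU σ m →* SU σ m := ((MulAut.conj ξ).toMonoidHom.comp (SU σ m).subtype).codRestrict _ fun g => l.su g.2
  have z : ∀ g, ∀ y ∈ ρ₂.range, (ρ₂ g)⁻¹ * ρ₁ (c g) * y = y * ((ρ₂ g)⁻¹ * ρ₁ (c g)) := fun g y i => by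
    have := r g (c g) rfl
    rw [MulEquiv.trans_apply, MulEquiv.symm_apply_eq, h₁ _ (e ▸ ⟨_, rfl⟩), h₂ _ ⟨_, rfl⟩, QuotientGroup.eq] at this
    exact congrArg Subtype.val (mem_center_iff.1 this ⟨y, i⟩).symm
  have := hom_eq d.perf (f := ρ₂) (k := ρ₁.comp c) (fun x y => z x _ ⟨_, rfl⟩) fun x y => z x _ (e ▸ ⟨_, rfl⟩)
  exact ⟨ξ, ⟨θ, l⟩, fun g i => by rw [up_eq i, up_eq (l.su i), this]; rfl⟩
theorem ind_of (k₁ : Ker ρ) (n : h ∈ 𝐍(ρ.range)) : ∃ ξ ∈ Gam σ m, Ind ρ h ξ := by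
  obtain ⟨ξ, l, e⟩ := d.ind2 k₁ (k₁.cj h) (by rw [MonoidHom.range_comp]; exact (cj_eq_self n).symm)
  exact ⟨ξ, l, fun g i => (up_comp (MulAut.conj h).toMonoidHom g).symm.trans (e g i)⟩
theorem ind_cen (k₁ : Ker ρ) (l : ξ ∈ Gam σ m) (i : Ind ρ h ξ) : h ∈ 𝐂(ρ.range) ↔ Sc ξ := by
  refine ⟨fun e => ?_, fun e => mem_centralizer_iff'.2 fun x k => ?_⟩
  · obtain ⟨-, c, -, f⟩ := d.sc_of l fun p j => k₁ _ (mul_mem (l.choose_spec.su j) (inv_mem j)) (by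
      rw [up_mul (l.choose_spec.su j) (inv_mem j), ← i p j, up_inv j, ← mem_centralizer_iff'.1 e _ (up_range p)]; simp)
    exact ⟨c, f⟩
  · obtain ⟨p, j, rfl⟩ := mem_range_up.1 k
    exact (i.cm j (sc_comm e (su_sem j))).symm
/-- two maps inducing the same element differ by a scalar -/
theorem ind_uq (k₁ : Ker ρ) (l : Sem σ θ ξ) (l' : Sem σ θ' ξ') (i : Ind ρ h ξ) (i' : Ind ρ h ξ') :
    θ = θ' ∧ ∃ c : K, c * σ c = 1 ∧ ∀ x, ξ x = c • ξ' x := by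
  have := i.mul l'.inv (i'.inv l')
  obtain ⟨e, c, n, f⟩ := d.sc_sem (l.mul l'.inv) ((d.ind_cen k₁ ⟨_, l.mul l'.inv⟩ this).1 (by simp))
  exact ⟨mul_inv_eq_one.1 e, c, n, fun x => by simpa using f (ξ' x)⟩
theorem th (k₁ : Ker ρ) : ∃ Θ : 𝐍(ρ.range) →* (K ≃+* K), ∀ h ξ θ, Sem σ θ ξ → Ind ρ h.1 ξ → Θ h = θ := by
  choose ξ l i using fun h : 𝐍(ρ.range) => d.ind_of k₁ h.2
  choose θ l using l
  exact ⟨MonoidHom.mk' θ fun a b => (d.ind_uq k₁ (l _) ((l a).mul (l b)) (i _) ((i a).mul (l b) (i b))).1,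
    fun h _ _ a b => (d.ind_uq k₁ (l _) a (i _) b).1⟩
theorem lift2 (k₁ : Ker ρ) {R : Subgroup G} (two : IsPGroup 2 R) (n : R ≤ 𝐍(ρ.range)) : ∃ ψ : R →* Perm (Fin m → K),
    (∀ r, ψ r ∈ Gam σ m ∧ Ind ρ r (ψ r)) ∧ (∀ r, ψ r = 1 ↔ r.1 ∈ 𝐂(ρ.range)) ∧
      ∀ g ∈ SU σ m, E2 g → up ρ g ∈ R → up ψ (up ρ g) = g := by
  let Γ : Subgroup (R × Perm (Fin m → K)) :=
    { carrier := {p | p.2 ∈ Gam σ m ∧ Ind ρ p.1 p.2}
      mul_mem' := fun a b => ⟨mul_mem a.1 b.1, a.2.mul b.1.choose_spec b.2⟩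
      one_mem' := ⟨one_mem _, ind_one (one_mem _)⟩
      inv_mem' := fun a => ⟨inv_mem a.1, a.2.inv a.1.choose_spec⟩ }
  obtain ⟨S, hS⟩ := exists_isSyl 2 Γ
  have e := hS.map (MonoidHom.fst _ _)
  let f := (MonoidHom.fst _ _).comp S.subtype
  have z : ∀ p ∈ S, p.1.1 ∈ 𝐂(ρ.range) → p.2 = 1 := fun p a c =>
    d.sc_two (hS.le a).1 ((d.ind_cen k₁ (hS.le a).1 (hS.le a).2).1 c) ((e2_of hS.isPGroup a).map (MonoidHom.snd _ _))
  have b : Function.Bijective f := ⟨(injective_iff_map_eq_one f).2 fun x k => Subtype.ext (Prod.ext k (z _ x.2 (by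
      rw [show x.1.1 = 1 from k]; exact one_mem _))), fun y => by
    obtain ⟨ξ, l, i⟩ := d.ind_of k₁ (n y.2)
    obtain ⟨x, hx, k⟩ := (e.eq_of_le (two.to_subgroup _) e.le le_rfl).le (⟨(y, ξ), ⟨l, i⟩, rfl⟩ : y ∈ Γ.map (MonoidHom.fst _ _))
    exact ⟨⟨x, hx⟩, k⟩⟩
  let ε := MulEquiv.ofBijective f b
  let ψ := (MonoidHom.snd _ _).comp (S.subtype.comp ε.symm.toMonoidHom)
  have k : ∀ r, (ε.symm r).1.1 = r := ε.apply_symm_apply
  have h : ∀ r, ψ r ∈ Gam σ m ∧ Ind ρ r (ψ r) := fun r => ⟨(hS.le (ε.symm r).2).1, by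
    have := (hS.le (ε.symm r).2).2; rwa [k] at this⟩
  refine ⟨ψ, h, fun r => ⟨fun e => (d.ind_cen k₁ (h r).1 (h r).2).2 (e ▸ sc_one), fun e => z _ (ε.symm r).2 ((k r).symm ▸ e)⟩,
    fun g l e2 i => ?_⟩
  rw [up_eq i]
  obtain ⟨θ, s⟩ := (h ⟨_, i⟩).1
  obtain ⟨rfl, c, -, r⟩ := d.ind_uq k₁ s (su_sem l) (h ⟨_, i⟩).2 (ind_up l)
  have sc : Sc (ψ ⟨_, i⟩ * g⁻¹) := ⟨c, fun x => by simp [r]⟩
  refine mul_inv_eq_one.1 (d.sc_two ⟨_, s.mul (su_sem l).inv⟩ sc (E2.mul (E2.map ψ (two _)) e2.inv ?_))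
  have := sc_comm sc (su_sem l)
  rw [inv_mul_cancel_right] at this
  rw [eq_inv_mul_iff_mul_eq, ← this]
end D6
end CF.Ud

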