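import Cfsg.Agent.Y6.U1
import Cfsg.Agent.Ud.D2

/-! Unitary groups in characteristic two including `U₆(2)`: parabolic subgroups. -/

set_option autoImplicit false
set_option linter.unusedSectionVars false
set_option linter.unusedVariables false

namespace CF.Ud
open Subgroup Equiv CF.Geom Module CF.Loc CF.LX
open scoped commutatorElement
variable {K : Type} [Field K] [Fintype K] [CharP K 2] {m q : ℕ} {σ θ : K ≃+* K} {a b c ζ : K}
  {g p k ξ : Perm (Fin m → K)} {u v w x y e n u' v' : Fin m → K} {T T' S : Submodule K (Fin m → K)}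
  {H P : Subgroup (Perm (Fin m → K))}
namespace D6
variable (d : D6 σ q m)
include d
theorem Q_SU : Q σ v ≤ SU σ m := (closure_le _).2 fun _ ⟨_, _, e⟩ => e ▸ d.E_SU _ _ _
theorem Q_Y : Q σ v ≤ Y σ v := (closure_le _).2 fun _ ⟨_, _, e⟩ => e ▸ ⟨d.E_SU _ _ _, E_self _ _ _⟩
theorem E_mem (z : ∀ a, σ a = a → E σ v 0 a ∈ H) (iso : ∀ n, hf σ n n = 0 → hf σ n u = 0 → hf σ n v = 0 → E σ v n 0 ∈ H)
    (o : Ok σ v n ζ) (f : hf σ n u = 0) : E σ v n ζ ∈ H := by
  refine (d.span_iso' (p := fun n => hf σ n v = 0 ∧ ∀ ζ, Ok σ v n ζ → E σ v n ζ ∈ H) (fun x y a b => ⟨by simp [a.1, b.1],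
    fun ζ o => ?_⟩) (fun x a b c => ⟨c, fun ζ o => ?_⟩) f o.nv).2 ζ o
  · obtain ⟨ζ', o'⟩ := d.ok o.vv a.1
    have o2 : Ok σ v y (ζ + ζ' + hf σ y x) := ⟨d.iv, o.vv, b.1, by
      have := o.tr; have := o'.tr; simp only [map_add, d.sy, hf_add_l, hf_add_r] at *; grind⟩
    have := mul_mem (a.2 _ o') (b.2 _ o2)
    rwa [E_mul o' o2, show ζ' + (ζ + ζ' + hf σ y x) + hf σ y x = ζ by grind] at this
  · rw [(E_split o a).2]; exact mul_mem (iso x a b c) (z _ (E_split o a).1)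
theorem Q_le_of (hv : hf σ v v = 0) (z : ∀ a, σ a = a → E σ v 0 a ∈ H) (iso : ∀ n, hf σ n n = 0 → hf σ n v = 0 → E σ v n 0 ∈ H) :
    Q σ v ≤ H := fun g i => by
  obtain ⟨n, ζ, o, rfl⟩ := (mem_Q d.iv hv).1 i
  exact d.E_mem z (fun n a _ => iso n a) o o.nv
theorem Y_gen (hv : hf σ v v = 0) (v0 : v ≠ 0) (l : ∀ w, hf σ w w = 0 → hf σ w v = 0 → E σ w 0 1 ∈ H) : Y σ v ≤ H := by
  have l' : ∀ w a, hf σ w w = 0 → hf σ w v = 0 → σ a = a → E σ w 0 a ∈ H := fun w a i j e => by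
    obtain ⟨c, f⟩ := d.tv_one i e
    exact f ▸ l _ (by simp [i]) (by simp [j])
  have hQ : Q σ v ≤ H := d.Q_le_of hv (fun a => l' v a hv hv) fun n a b => by
    have := tv_pol d.iv hv a (d.sw b) (map_one σ)
    rw [one_smul] at this
    exact this ▸ mul_mem (mul_mem (l _ (by simp [d.sw b, *]) (by simp [*])) (l _ hv hv)) (l _ a b)
  obtain ⟨y, hy, j, j'⟩ := d.partner hv v0
  suffices ∀ g ∈ SU σ m, g v = v → g y = y → g ∈ H by
    intro g ⟨i, e⟩
    replace e : g v = v := e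
    obtain ⟨o, r⟩ := d.Q_move hv hy (x := g y) (by rw [(su_sem i).form1, hy]) j (by rw [← e, (su_sem i).form1, j])
    exact (mul_mem_cancel_left (inv_mem (hQ (E_Q _ _ _)))).1 (this _ (mul_mem (inv_mem (d.E_SU _ _ _)) i)
      (Perm.inv_eq_iff_eq.2 (e.trans (E_self ..).symm)) (Perm.inv_eq_iff_eq.2 r.symm))
  intro g i e e'
  have s := su_sem i
  let P := pp σ (Submodule.span K {v, y})
  have mP : ∀ x, x ∈ P ↔ hf σ x v = 0 ∧ hf σ x y = 0 := fun x => mem_perp_pair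
  have nd := (d.wp.restrict (d.wp.disjoint_perp_perp (d.wp.disjoint_hyperbolic hv hy (j.trans_ne one_ne_zero)))).nondegenerate
  have dm : 4 ≤ finrank K P := by have : _ + finrank K P = m := d.pp_dim _; have := pair_dim v y; have := d.hm; omega
  have st : ∀ {g}, Sem σ 1 g → g v = v → g y = y → ∀ x, g x - x ∈ P := fun s e e' x => (mP _).2
    ⟨by rw [vsub, hf_add_l, ← s.form1 x v, e, CharTwo.add_self_eq_zero], by rw [vsub, hf_add_l, ← s.form1 x y, e', CharTwo.add_self_eq_zero]⟩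
  have hP : P ≤ P.comap (lin s) := fun x a => by simpa [lin_ap] using add_mem (st s e e' x) a
  let M : Subgroup (UG ((sq σ m).domRestrict₁₂ P P)) :=
    { carrier := {k | ∃ h ∈ H, Sem σ 1 h ∧ h v = v ∧ h y = y ∧ ∀ x : P, h x = k.1 x}
      mul_mem' := fun ⟨h, a1, a2, a3, a4, a5⟩ ⟨k, b1, b2, b3, b4, b5⟩ => ⟨h * k, mul_mem a1 b1, a2.mul1 b2, by simp [*], by simp [*],
        fun x => by rw [Perm.mul_apply, b5, a5]; rfl⟩
      one_mem' := ⟨1, one_mem _, sem_one, rfl, rfl, fun _ => rfl⟩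
      inv_mem' := fun {k} ⟨h, a1, a2, a3, a4, a5⟩ => ⟨h⁻¹, inv_mem a1, a2.inv1, Perm.inv_eq_iff_eq.2 a3.symm,
        Perm.inv_eq_iff_eq.2 a4.symm, fun x => Perm.inv_eq_iff_eq.2 (by rw [a5]; exact congrArg _ (k.1.apply_symm_apply x).symm)⟩ }
  have hM : uTransSub (d.herm.restrict P) ≤ M := (closure_le _).2 (by
    rintro _ ⟨w, a, i, f, rfl⟩
    have f' : σ a = a := f.trans (CharTwo.neg_eq a)
    obtain ⟨h1, h2⟩ := (mP _).1 w.2
    exact ⟨E σ w 0 a, l' _ _ i h1 f', E_sem .., E_fix (d.sw h1) (by simp) _, E_fix (d.sw h2) (by simp) _, fun x => by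
      rw [E_ap (ok_tv d.iv (v := w.1) i f')]; change _ = x.1 + (a * hf σ x.1 w) • w.1; simp⟩)
  rw [uTransSub_eq_suSub _ nd (le_trans (by omega) dm) (.inr dm)] at hM
  obtain ⟨h, a1, a2, a3, a4, a5⟩ := hM (x := ⟨LinearEquiv.ofInjectiveEndo ((lin s).restrict hP) fun x y e => Subtype.ext
    (g.injective (congrArg Subtype.val e)), mem_UG.2 fun x y => s.form1 y x⟩) (mem_suSub.2 (by
      have := (lin s).det_eq_det_mul_det P hP
      rw [← dt_eq, (d.mem_SU.1 i).2, show P.mapQ P (lin s) hP = .id from Submodule.linearMap_qext _ (LinearMap.ext fun x =>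
        (Submodule.Quotient.eq P).2 (st s e e' x)), LinearMap.det_id, mul_one] at this
      exact this.symm))
  rwa [d.ext_hyp hv hy j s a2 (e.trans a3.symm) (e'.trans a4.symm) fun x a b => (a5 ⟨x, (mP _).2 ⟨a, b⟩⟩).symm]
theorem iso_val (h : x ∉ Submodule.span K {u, v}) (c : K) : ∃ y, hf σ y y = 0 ∧ hf σ y u = 0 ∧ hf σ y v = 0 ∧ hf σ x y = c := by
  obtain ⟨y, a, b, e, f⟩ : ∃ y, hf σ y y = 0 ∧ hf σ y u = 0 ∧ hf σ y v = 0 ∧ hf σ x y ≠ 0 := by
    by_contra! z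
    exact h (d.mem_of_pp fun y i => d.span_iso' (p := fun y => hf σ x y = 0) (fun _ _ a b => by simp [a, b]) z
      (i _ (Submodule.subset_span (by simp))) (i _ (Submodule.subset_span (by simp))))
  exact ⟨σ (c / hf σ x y) • y, by simp [a], by simp [b], by simp [e], by rw [hf_smul_r, d.iv, div_mul_cancel₀ _ f]⟩
theorem hyp3 (e : hf σ u w ≠ 0) (hu : hf σ u u = 0) (hw : hf σ w w = 0) (a : hf σ u v = 0) (b : hf σ w v = 0) (c : K) :
    ∃ s s', hf σ s s = 0 ∧ hf σ s' s' = 0 ∧ hf σ s u = 0 ∧ hf σ s w = 0 ∧ hf σ s v = 0 ∧ hf σ s' u = 0 ∧ hf σ s' w = 0 ∧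
      hf σ s' v = 0 ∧ hf σ s s' = c := by
  let S := Submodule.span K (Set.range ![u, w, v])
  have h1 : finrank K S ≤ 3 := span_dim _
  have h2 : S ⊓ pp σ S ≤ Submodule.span K (Set.range ![v]) := fun x ⟨i, j⟩ => by
    obtain ⟨f, rfl⟩ := (Submodule.mem_span_range_iff_exists_fun K).1 i
    have h1 := j _ (Submodule.subset_span ⟨0, rfl⟩)
    have h2 := j _ (Submodule.subset_span ⟨1, rfl⟩)
    have : hf σ w u ≠ 0 := fun z => e (d.sw z)
    simp only [sq_ap, Fin.sum_univ_three, hf_add_l, hf_smul_l] at h1 h2 ⊢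
    simp [hu, hw, d.sw a, d.sw b, e, this] at h1 h2
    simp [h1, h2, Submodule.smul_mem]
  have h3 := (Submodule.finrank_mono h2).trans (span_dim _)
  obtain ⟨s, s', -, h4, h5, h6, h7, h8⟩ := d.hyp_out (S := S) (by have := d.hm; omega) c
  have i : ∀ j, ![u, w, v] j ∈ S := fun j => Submodule.subset_span ⟨j, rfl⟩
  exact ⟨s, s', h4, h5, h6 _ (i 0), h6 _ (i 1), h6 _ (i 2), h7 _ (i 0), h7 _ (i 1), h7 _ (i 2), h8⟩
end D6
end CF.Ud

namespace CF.Ud
open Subgroup Equiv CF.Geom Module CF.Loc CF.LX CF.Dbl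
open scoped commutatorElement
variable {K : Type} [Field K] [Fintype K] [CharP K 2] {m q : ℕ} {σ θ : K ≃+* K} {a b c ζ ζ' : K}
  {g p k ξ w : Perm (Fin m → K)} {u v x y e n n' u' v' : Fin m → K} {T T' S : Submodule K (Fin m → K)}
  {H P : Subgroup (Perm (Fin m → K))}
namespace D6
variable (d : D6 σ q m)
include d
theorem tv_fix (l : Sem σ θ ξ) (hv : hf σ v v = 0) (v0 : v ≠ 0) (e : ξ * E σ v 0 1 = E σ v 0 1 * ξ) :
    ∃ c : K, ξ v = c • v ∧ c * σ c = 1 := by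
  have := conj_eq_iff.2 e
  rw [tv_cj l, map_one] at this
  simpa using d.tv_inj hv (by rw [l.form, hv, map_zero]) (map_one σ) (map_one σ) one_ne_zero v0 this.symm
theorem E_eig (l : Sem σ θ ξ) (e : ξ v = c • v) (h : c * σ c = 1) (o : Ok σ v n ζ) :
    Ok σ v (σ c • ξ n) (θ ζ) ∧ ξ * E σ v n ζ * ξ⁻¹ = E σ v (σ c • ξ n) (θ ζ) := by
  have o' := o.cj l
  rw [e] at o'
  have k : hf σ (ξ n) v = 0 := by have := o'.nv; rw [hf_smul_r] at this; grind
  exact ⟨by simpa [h] using o'.smul o.vv k, by rw [E_cj l, e, E_smul o' o.vv k, h, one_mul]⟩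
theorem cX (l : Ti σ T) (T0 : T ≠ ⊥) (i : ξ ∈ Gam σ m) (e : ∀ v ∈ T, ∀ n a, (∀ x ∈ T, hf σ x n = 0) → ξ * E σ v n a = E σ v n a * ξ) :
    ∃ c : K, ∃ w ∈ WX σ T, c * σ c = 1 ∧ ∀ x, ξ x = c • w x := by
  obtain ⟨θ, s⟩ := i
  obtain ⟨v, hv, v0⟩ := T.ne_bot_iff.1 T0
  have vv := l v hv v hv
  obtain ⟨c, h1, h2⟩ := d.tv_fix s vv v0 (e v hv 0 1 (by simp))
  have k : ∀ n ∈ pp σ T, ∃ a : K, σ c • ξ n = n + a • v ∧ (θ = 1 → a + σ a = 0) := fun n j => by
    obtain ⟨ζ, o⟩ := d.ok vv (j v hv)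
    obtain ⟨o', r⟩ := d.E_eig s h1 h2 o
    obtain ⟨a, f, f'⟩ := d.E_inj o o' v0 ((conj_eq_iff.2 (e v hv n ζ fun x k => d.sw (j x k))).symm.trans r)
    exact ⟨a, f, fun t => by simp only [t, RingAut.one_apply] at f'; grind⟩
  obtain ⟨n, a, b⟩ := exists_out (T := Submodule.span K {v}) (T' := pp σ T) (by
    have := d.pp_dim T; have := d.ti_le l; have := one_dim v; have := d.hm; omega)
  obtain rfl := th_one s a b fun n j => (k n j).imp fun _ => And.left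
  have h3 : σ c * σ (σ c) = 1 := by rw [d.iv, mul_comm, h2]
  refine ⟨c, sm _ h3 * ξ, d.mem_W ((sm_sem h3).mul1 s) fun x j => ?_, h2, fun x => by simp [sm_ap, smul_smul, h2]⟩
  obtain ⟨ω, o⟩ := d.om
  obtain ⟨a, f, f'⟩ := k x j
  obtain ⟨b, r, r'⟩ := k (ω • x) (Submodule.smul_mem _ _ j)
  rw [s.smul1, smul_comm, f, smul_add, add_right_inj, smul_smul] at r
  rw [← smul_left_injective K v0 r, map_mul] at r'
  rw [Perm.mul_apply, sm_ap, f, show a = 0 by grind, zero_smul, add_zero]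
theorem W_el (l : Ti σ T) : El (WX σ T) := fun _ => W_sq l
theorem W_gen (l : Ti σ T) (e : ∀ v ∈ T, E σ v 0 1 ∈ H) : WX σ T ≤ H := d.toFd.W_gen l e
theorem ti_one (hv : hf σ v v = 0) : Ti σ (Submodule.span K {v}) := fun x a y b => by
  obtain ⟨_, rfl⟩ := Submodule.mem_span_singleton.1 a
  obtain ⟨_, rfl⟩ := Submodule.mem_span_singleton.1 b
  simp [hv]
theorem W_line (hv : hf σ v v = 0) : WX σ (Submodule.span K {v}) = Z σ v :=
  le_antisymm (d.W_gen (d.ti_one hv) fun x a => by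
    obtain ⟨_, rfl⟩ := Submodule.mem_span_singleton.1 a
    rw [tv_smul d.iv hv (map_one σ)]; exact tv_Z _ _)
    ((closure_le _).2 fun _ ⟨_, e⟩ => e ▸ E_W (Submodule.mem_span_singleton_self v) (zero_mem _) _)
theorem Vl_dim : finrank K (Vf K m (m / 2)) = m / 2 := Vf_dim (by omega)
theorem inv_sa (s : Sem σ 1 g) (e : g * g = 1) (x y : Fin m → K) : hf σ (g x + x) y = hf σ x (g y + y) := by
  rw [hf_add_l, hf_add_r, ← s.form1 (g x), ← Perm.mul_apply, e, Perm.one_apply]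
theorem inv_D (s : Sem σ θ g) (e : g * g = 1) (x : Fin m → K) : g (g x + x) = g x + x := by
  rw [s.add, ← Perm.mul_apply, e, Perm.one_apply, add_comm]
theorem WX_norm (l : Ti σ T) (i : ξ ∈ Gam σ m) : ξ ∈ 𝐍(WX σ T) ↔ ∀ x ∈ T, ξ x ∈ T := by
  obtain ⟨θ, s⟩ := i
  refine ⟨fun e x j => ?_, fun e => mem_normalizer_fintype fun w => W_cj s e⟩
  have := (mem_normalizer_iff.1 e _).1 (E_W j (zero_mem _) 1)
  rw [tv_cj s, map_one] at this
  exact d.tv_W (by rw [s.form, l x j x j, map_zero]) (map_one σ) one_ne_zero this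
theorem W_norm (i : ξ ∈ Gam σ m) : ξ ∈ 𝐍(WW σ m) ↔ ∀ x ∈ Vf K m (m / 2), ξ x ∈ Vf K m (m / 2) := d.WX_norm (Vf_ti le_rfl) i
theorem mem_PP : g ∈ PP σ m ↔ g ∈ SU σ m ∧ ∀ x ∈ Vf K m (m / 2), g x ∈ Vf K m (m / 2) :=
  and_congr_right fun i => d.W_norm (GU_le (SU_le i))
theorem wittP0 (l : Ti σ T) {r : ℕ} {u v : Fin r → T} (hu : LinearIndependent K u) (hv : LinearIndependent K v) :
    ∃ g ∈ GU σ m, (∀ x ∈ T, g x ∈ T) ∧ ∀ i, g (u i) = v i := by
  obtain ⟨j, h⟩ := Nat.exists_eq_add_of_le (Fintype.card_fin r ▸ hu.fintype_card_le_finrank)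
  induction j generalizing r with
  | zero =>
    obtain ⟨g, a, b⟩ := d.witt0 (hu.map' T.subtype T.ker_subtype) (hv.map' T.subtype T.ker_subtype) fun i j =>
      (l _ (u i).2 _ (u j).2).trans (l _ (v i).2 _ (v j).2).symm
    refine ⟨g, a, fun x i => ?_, b⟩
    obtain ⟨c, e⟩ := (Submodule.mem_span_range_iff_exists_fun K).1 ((hu.span_eq_top_of_card_eq_finrank' (by simp [h])).ge
      (Submodule.mem_top (x := ⟨x, i⟩)))
    rw [show x = _ from congrArg Subtype.val e.symm, Submodule.coe_sum, Sem.sum a]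
    exact T.sum_mem fun i _ => by rw [Submodule.coe_smul, Sem.smul1 a]; exact T.smul_mem _ (b i ▸ (v i).2)
  | succ j ih =>
    obtain ⟨x, a⟩ := exists_linearIndependent_cons_of_lt_finrank hu (by omega)
    obtain ⟨y, b⟩ := exists_linearIndependent_cons_of_lt_finrank hv (by omega)
    obtain ⟨g, c, e, f⟩ := ih a b (by omega)
    exact ⟨g, c, e, fun i => f i.succ⟩
theorem fixP (l : Ti σ T) (s : Sem σ 1 g) (hx : x ∈ T) (h : x ∉ S) (hS : S ≤ T) : ∃ r, ∃ c : K, c * σ c = 1 ∧ r * g ∈ SU σ m ∧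
    (∀ z ∈ T, r z ∈ T) ∧ (∀ z ∈ S, r z = z) ∧ r x = c • x := by
  obtain ⟨y, a, b, e⟩ := d.part_iso h (l x hx x hx) fun z i => l x hx z (hS i)
  obtain ⟨r, i, c, h1, h2, -, h3, h4⟩ := d.fix_hyp s a (l x hx x hx) b
  refine ⟨r, c, h1, h4, fun z j => ?_, fun z j => h2 z (d.sw (e z j)) (l z (hS j) x hx), h3⟩
  have := h2 (z + hf σ z y • x) (by simp [← d.sy y x, b, CharTwo.add_self_eq_zero]) (by simp [l z j x hx, l x hx x hx])
  rw [Sem.add i, Sem.smul1 i, h3, ← eq_sub_iff_add_eq] at this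
  exact this ▸ sub_mem (add_mem j (T.smul_mem _ hx)) (T.smul_mem _ (T.smul_mem _ hx))
end D6
end CF.Ud

namespace CF.Ud
open Subgroup Equiv CF.Geom Module CF.Loc CF.LX CF.Dbl
open scoped commutatorElement
variable {K : Type} [Field K] [Fintype K] [CharP K 2] {m q : ℕ} {σ θ : K ≃+* K} {a b c ζ ζ' : K}
  {g p k ξ w : Perm (Fin m → K)} {u v x y e n n' u' v' : Fin m → K} {T T' S : Submodule K (Fin m → K)}
  {H P : Subgroup (Perm (Fin m → K))}
namespace D6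
variable (d : D6 σ q m)
include d
theorem U_SU : UT σ m ≤ SU σ m := fun g i => d.two_SU i.1 (e2_of UT_two i)
theorem W_le : WW σ m ≤ UT σ m := fun w i => mem_UT.2 ⟨i.1, fun j x h => by
  by_cases e : j + 1 + m / 2 ≤ m
  · simp [W_fix i fun z k => hf_Vf h k e]
  · exact Vf_mono (by omega) (i.2 x)⟩
theorem perp0 (h : hf σ n (bv 0) = 0) : n ∈ Vf K m (m - 1) := (Vf_pp (σ := σ) (i := 1) (by have := d.hm; omega)).le fun y i => by
  obtain ⟨c, rfl⟩ := Vf_one.1 i; simp [sq_ap, h]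
theorem Q_le : Q σ (bv 0) ≤ UT σ m := fun g i => by
  obtain ⟨n, ζ, o, rfl⟩ := (mem_Q d.iv d.b00).1 i
  exact E_UT (bv_mem one_pos) (d.perp0 o.nv) (by have := d.hm; omega) (by have := d.hm; omega) ζ
theorem U_of (i : Sem σ 1 g) (f : Fl g) (e : E2 g) : g ∈ UT σ m := mem_UT_dg i f fun j => by
  obtain ⟨k, e⟩ := e
  exact pow_two_inj (j := k) (by rw [← dg_pow i f, e]; exact bv_self j)
theorem U_norm (i : ξ ∈ Gam σ m) : ξ ∈ 𝐍(UT σ m) ↔ Fl ξ := by
  obtain ⟨θ, s⟩ := i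
  refine ⟨fun e j => ?_, fun f => mem_normalizer_fintype fun g => UT_cj' s f⟩
  have key : ∀ i : Fin m, 1 ≤ i.val → ∀ x ∈ Vf K m (i + 1), (∀ u ∈ UT σ m, (u x - x) ⟨i - 1, by omega⟩ = 0) → x i = 0 := by
    intro i h x a b
    have := i.2
    have h1 : hf σ x (bv (m - 1 - i)) = x i := by rw [← hf_bv (σ := σ) x i, Fin.val_rev, Nat.sub_sub, add_comm]
    have h2 : ∀ a b, a < m → b < m → a + b + 1 ≠ m → hf σ (bv a : Fin m → K) (bv b) = 0 := fun a b _ l n => by rw [hf_bb l, if_neg n]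
    rcases lt_trichotomy (2 * i.val) m with l | l | l
    · obtain ⟨ζ, o⟩ := d.ok (v := (bv (i - 1) : Fin m → K)) (n := bv (m - 1 - i)) (h2 _ _ (by omega) (by omega) (by omega))
        (h2 _ _ (by omega) (by omega) (by omega))
      simpa [E_ap o, hf_Vf a (bv_mem (Nat.lt_succ_self (i - 1))) (by omega), h1, bv] using
        b _ (E_UT (bv_mem (Nat.lt_succ_self (i - 1))) (bv_mem (Nat.lt_succ_self (m - 1 - i))) (by omega) (by omega) ζ)
    · have o := ok_tv (v := (bv (m - 1 - i) : Fin m → K)) d.iv (h2 _ _ (by omega) (by omega) (by omega)) (map_one σ)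
      simpa [E_ap o, h1, bv, show i - 1 = m - 1 - i by omega] using
        b _ (E_UT (bv_mem (Nat.lt_succ_self (m - 1 - i))) (zero_mem (Vf K m 0)) (by omega) (by omega) 1)
    · obtain ⟨ζ, o⟩ := d.ok (v := (bv (m - 1 - i) : Fin m → K)) (n := bv (i - 1)) (h2 _ _ (by omega) (by omega) (by omega))
        (h2 _ _ (by omega) (by omega) (by omega))
      simpa [E_ap o, h1, bv, add_assoc, show i - 1 ≠ m - 1 - i by omega] using
        b _ (E_UT (bv_mem (Nat.lt_succ_self (m - 1 - i))) (bv_mem (Nat.lt_succ_self (i - 1))) (by omega) (by omega) ζ)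
  induction j with
  | zero => intro x h; rw [Vf_zero.1 h, s.zero]; exact zero_mem _
  | succ j ih =>
    intro x h
    have r : ∀ u ∈ UT σ m, u (ξ x) - ξ x ∈ Vf K m j := fun u i => by
      simpa [s.sub] using ih _ ((mem_UT.1 ((mem_normalizer_iff''.1 e u).1 i)).2 j x h)
    have : ∀ k, j + 1 ≤ k → ξ x ∈ Vf K m (k + 1) → ξ x ∈ Vf K m k := fun k l a i b => by
      by_cases z : i.val = k
      · exact key i (by omega) _ (z ▸ a) fun u i => r u i _ (by simp; omega)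
      · exact a i (by omega)
    exact Nat.decreasingInduction' (m := j + 1) (n := j + 1 + m) (P := fun k => ξ x ∈ Vf K m k) (fun k _ => this k) (by omega)
      (Vf_mono (by omega) Vf_top)
theorem U_max (two : IsPGroup 2 P) (l : P ≤ GU σ m) (l' : UT σ m ≤ P) : P = UT σ m := by
  by_contra n
  obtain ⟨g, ⟨a, b⟩, c⟩ := SetLike.exists_of_lt (lt_inf_normalizer two (lt_of_le_of_ne l' (Ne.symm n)))
  exact c (d.U_of (l a) ((d.U_norm (GU_le (l a))).1 b) (e2_of two a))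
theorem U_syl : IsSyl 2 (UT σ m) (SU σ m) := ⟨d.U_SU, UT_two, fun _ a b c => d.U_max a (c.trans SU_le) b⟩
theorem sc_W (hv : g v = v) (hv' : w v = v) (v0 : v ≠ 0) (e : ∀ x, g x = c • w x) : g = w := by
  have : c = 1 := smul_left_injective K v0 (by simpa [hv, hv'] using (e v).symm)
  exact Equiv.ext fun x => by simp [e, this]
theorem cQ0 (hv : hf σ v v = 0) (v0 : v ≠ 0) (i : ξ ∈ Gam σ m) (e : ξ ∈ 𝐂(Q σ v)) :
    ∃ c : K, ∃ w ∈ Z σ v, c * σ c = 1 ∧ ∀ x, ξ x = c • w x := by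
  rw [← d.W_line hv]
  refine d.cX (d.ti_one hv) (by simpa) i fun u j n a k => (mem_centralizer_iff'.1 e _ ?_).symm
  obtain ⟨c, rfl⟩ := Submodule.mem_span_singleton.1 j
  by_cases o : Ok σ (c • v) n a
  · rw [E_smul o hv (d.sw (k _ (Submodule.mem_span_singleton_self v)))]; exact E_Q _ _ _
  · exact E_junk o ▸ one_mem _
end D6
end CF.Ud

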