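import Cfsg.Agent.Y6.U2
import Cfsg.Agent.Ud.J2

/-! Unitary groups in characteristic two including `U₆(2)`: involutions and the Thompson subgroup. -/

set_option autoImplicit false
set_option linter.unusedSectionVars false
set_option linter.unusedVariables false

namespace CF.Ud
open Subgroup Equiv CF.Geom Module CF.Loc CF.LX CF.Dbl
open scoped commutatorElement
variable {K : Type} [Field K] [Fintype K] [CharP K 2] {m q : ℕ} {σ θ θ' : K ≃+* K} {a b c ζ ζ' : K}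
  {g p k ξ α w w' : Perm (Fin m → K)} {u v x y e n n' u' v' : Fin m → K} {T T' S : Submodule K (Fin m → K)}
  {H P O : Subgroup (Perm (Fin m → K))}
namespace D6
variable (d : D6 σ q m)
include d
theorem im1_ti (i : Sem σ 1 g) (e : g * g = 1) : Ti σ (im1 g) := fun x a y b => by
  obtain ⟨x, rfl⟩ := (mem_im1 i).1 a
  obtain ⟨y, rfl⟩ := (mem_im1 i).1 b
  rw [d.inv_sa i e, d.inv_D i e, vv, hf_zero_r]
theorem W_conj (l : Ti σ T) : ∃ r ∈ SU σ m, ∀ g ∈ WX σ T, r * g * r⁻¹ ∈ WW σ m := by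
  obtain ⟨r, a, b⟩ := d.wittX l
  exact ⟨r, a, fun g => W_cj (su_sem a) fun x h => Vf_mono (d.ti_le l) ((b x).1 h)⟩
theorem m3 (i : Sem σ 1 g) (e : g * g = 1) : ∃ r ∈ SU σ m, r * g * r⁻¹ ∈ WW σ m :=
  (d.W_conj (d.im1_ti i e)).imp fun _ h => ⟨h.1, h.2 _ (W_im1 i)⟩
theorem rk_cj (i : ξ ∈ Gam σ m) (l : Sem σ 1 g) : rk (ξ * g * ξ⁻¹) = rk g := by
  obtain ⟨θ, s⟩ := i
  refine (dim_eq (T := im1 g) ξ fun x => ?_).symm
  rw [mem_im1 l, mem_im1 (s.cj l)]
  exact ⟨fun ⟨y, e⟩ => ⟨ξ y, by simp [← e, s.add]⟩, fun ⟨y, e⟩ => ⟨ξ⁻¹ y, ξ.injective (by simpa [s.add] using e)⟩⟩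
theorem W_dec (l : Ti σ T) (i : w ∈ WX σ T) : ∃ r, ∃ v : Fin r → Fin m → K, LinearIndependent K v ∧ (∀ i, v i ∈ T) ∧
    ∀ x, w x = x + ∑ i, hf σ x (v i) • v i :=
  d.W_ind (p := fun T w => ∃ r, ∃ v : Fin r → Fin m → K, LinearIndependent K v ∧ (∀ i, v i ∈ T) ∧
    ∀ x, w x = x + ∑ i, hf σ x (v i) • v i) (fun _ => ⟨0, ![], linearIndependent_empty_type, by simp, by simp⟩)
    (fun T T' w u l a b c e ⟨r, v, h1, h2, h3⟩ => ⟨r + 1, Fin.cons u v, linearIndependent_finCons.2 ⟨h1, fun k =>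
      c (Submodule.span_le.2 (Set.range_subset_iff.2 h2) k)⟩, Fin.cases b fun i => a.le (h2 i), fun x => by
      simp [E_ap (ok_tv d.iv (l _ b _ b) (map_one σ)), e.1.add, e.1.smul1, W_fix (W_mono a.le e) (l _ b), h3 x, Fin.sum_univ_succ]
      abel⟩) l i
theorem rk_of {r : ℕ} {v : Fin r → Fin m → K} (h : LinearIndependent K v) (π : Perm (Fin r))
    (e : ∀ x, g x = x + ∑ i, hf σ x (v (π i)) • v i) : rk g = r := by
  suffices im1 g = Submodule.span K (Set.range v) by rw [← Fintype.card_fin r, ← finrank_span_eq_card h, ← this]; rfl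
  refine le_antisymm (Submodule.span_le.2 ?_) (Submodule.span_le.2 ?_) <;> rintro _ ⟨x, rfl⟩
  · simp only [e, add_sub_cancel_left]
    exact Submodule.sum_mem _ fun i _ => Submodule.smul_mem _ _ (Submodule.subset_span ⟨i, rfl⟩)
  · obtain ⟨n, k⟩ := d.dual h (Pi.single (π x) 1)
    exact Submodule.subset_span ⟨n, by simp [e, ← d.sy (v _) n, k, Pi.single_apply, apply_ite σ]⟩
theorem rc (i : w ∈ WW σ m) (i' : w' ∈ WW σ m) (e : rk w = rk w') : ∃ g ∈ PP σ m, g * w * g⁻¹ = w' := by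
  have t := Vf_ti (σ := σ) (m := m) le_rfl
  obtain ⟨r, v, h1, h2, h3⟩ := d.W_dec t i
  obtain ⟨r', v', k1, k2, k3⟩ := d.W_dec t i'
  obtain rfl : r = r' := by rw [← d.rk_of h1 1 h3, e, d.rk_of k1 1 k3]
  suffices ∃ g ∈ PP σ m, ∀ i, ∃ c : K, c * σ c = 1 ∧ g (v i) = c • v' i by
    obtain ⟨g, a, b⟩ := this
    have s := su_sem a.1
    refine ⟨g, a, Equiv.ext fun x => ?_⟩
    obtain ⟨x, rfl⟩ := g.surjective x
    simp only [Perm.mul_apply, Perm.coe_inv, symm_apply_apply, h3, k3 (g x), s.add, s.sum, s.smul1, add_right_inj]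
    refine Finset.sum_congr rfl fun i _ => ?_
    obtain ⟨c, h, f⟩ := b i
    rw [← s.form1, f, hf_smul_r, smul_smul, mul_right_comm, mul_comm _ c, h, one_mul]
  cases r with
  | zero => exact ⟨1, one_mem _, by simp⟩
  | succ r =>
    obtain ⟨g, s, e, f⟩ := d.wittP0 t (u := fun i => ⟨v i, h2 i⟩) (v := fun i => ⟨v' i, k2 i⟩)
      (.of_comp (Submodule.subtype _) h1) (.of_comp (Submodule.subtype _) k1)
    obtain ⟨k, c, j1, j2, j3, j4, j5⟩ := d.fixP t s (k2 0) (linearIndependent_fin_succ.1 k1).2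
      (Submodule.span_le.2 (Set.range_subset_iff.2 fun i => k2 _))
    exact ⟨k * g, d.mem_PP.2 ⟨j2, fun x i => j3 _ (e x i)⟩, Fin.cases ⟨c, j1, (congrArg k (f 0)).trans j5⟩ fun i =>
      ⟨1, by simp, (congrArg k (f _)).trans ((j4 _ (Submodule.subset_span ⟨i, rfl⟩)).trans (one_smul ..).symm)⟩⟩
theorem rk_conj (i : Sem σ 1 g) (e : g * g = 1) (i' : Sem σ 1 p) (e' : p * p = 1) (h : rk g = rk p) : ∃ k ∈ SU σ m, k * g * k⁻¹ = p := by
  obtain ⟨r, a, b⟩ := d.m3 i e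
  obtain ⟨r', a', b'⟩ := d.m3 i' e'
  obtain ⟨k, c, f⟩ := d.rc b b' (by rw [d.rk_cj (GU_le (SU_le a)) i, d.rk_cj (GU_le (SU_le a')) i', h])
  exact ⟨r'⁻¹ * k * r, mul_mem (mul_mem (inv_mem a') c.1) a, by
    rw [show p = r'⁻¹ * (r' * p * r'⁻¹) * r' by group, ← f]; group⟩
theorem fix_out (i : Sem σ σ α) (e : α * α = 1) (hT : ∀ x ∈ T, α x ∈ T) (h : finrank K T' < finrank K T) :
    ∃ x ∈ T, x ∉ T' ∧ α x = x := by
  obtain ⟨x, a, b⟩ := exists_out h
  obtain ⟨ω, o⟩ := d.om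
  by_contra! z
  have k : ∀ x ∈ T, α x + x ∈ T' := fun x a => by_contra fun n => z _ (add_mem (hT x a) a) n (d.inv_D i e x)
  have := add_mem (T'.smul_mem (σ ω) (k x a)) (k _ (T.smul_mem ω a))
  rw [i.smul, smul_add, add_add_add_comm, vv, zero_add, ← add_smul, add_comm, o, one_smul] at this
  exact b this
theorem fix_sym (i : Sem σ σ α) (a : α x = x) (b : α y = y) : σ (hf σ x y) = hf σ x y := by rw [← i.form, a, b]
theorem fix_iso (i : Sem σ σ α) (e : α * α = 1) (hT : ∀ x ∈ T, α x ∈ T) (h : finrank K T' + 1 < finrank K T) :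
    ∃ x ∈ T, x ∉ T' ∧ α x = x ∧ hf σ x x = 0 := by
  obtain ⟨x, a, b, c⟩ := d.fix_out (T' := T') i e hT (by omega)
  obtain ⟨y, a', b', c'⟩ := d.fix_out (T' := T' ⊔ Submodule.span K {x}) i e hT (by
    have := Submodule.finrank_add_le_finrank_add_finrank T' (Submodule.span K {x}); have := one_dim x; omega)
  by_cases z : hf σ x x = 0
  · exact ⟨x, a, b, c, z⟩
  obtain ⟨s, k⟩ := exists_rt (hf σ y y / hf σ x x)
  have hs := d.fix_rt (c := s) (by rw [k, map_div₀, d.sy, d.sy])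
  refine ⟨y + s • x, add_mem a' (T.smul_mem _ a), fun j => b' ?_, by rw [i.add, i.smul, hs, c, c'], ?_⟩
  · simpa using sub_mem (Submodule.mem_sup_left j) (Submodule.mem_sup_right (Submodule.smul_mem _ s (Submodule.mem_span_singleton_self x)))
  · have := (d.sy x y).symm.trans (d.fix_sym i c c')
    rw [eq_div_iff z] at k
    simp [hs]; grind
theorem pp_inv (i : Sem σ θ α) (e : α * α = 1) {s : Set (Fin m → K)} (h : ∀ x ∈ s, α x = x) (x) (a : x ∈ pp σ (Submodule.span K s)) :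
    α x ∈ pp σ (Submodule.span K s) := mem_pp_span.2 fun y b => by rw [← h y b, i.form, mem_pp_span.1 a y b, map_zero]
end D6
end CF.Ud

namespace CF.Ud
open Subgroup Equiv CF.Geom Module CF.Loc CF.LX CF.Dbl
open scoped commutatorElement
variable {K : Type} [Field K] [Fintype K] [CharP K 2] {m q j : ℕ} {σ θ θ' : K ≃+* K} {c ζ ζ' ω : K}
  {g p k ξ α w w' a b : Perm (Fin m → K)} {u v x y n n' u' v' : Fin m → K} {T T' S : Submodule K (Fin m → K)}
  {A B H P O : Subgroup (Perm (Fin m → K))}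
namespace D6
variable (d : D6 σ q m)
include d
theorem card_T (T : Submodule K (Fin m → K)) : Nat.card T = q ^ (2 * finrank K T) := by rw [card_sub, d.card, pow_mul]
theorem card_V (h : j ≤ m) : Nat.card (Vf K m j) = q ^ (2 * j) := by rw [d.card_T, Vf_dim h]
theorem q1 : 1 < q := d.two_le
theorem ts (M : AddSubgroup (Fin m → K)) (iso : ∀ x ∈ M, hf σ x x = 0) : Nat.card M ≤ q ^ (2 * (m / 2)) := by
  suffices ∀ S, Ti σ S → ∀ M : AddSubgroup (Fin m → K), (∀ x ∈ M, hf σ x x = 0) → (∀ x ∈ S, x ∈ M) → (∀ x ∈ M, x ∈ pp σ S) →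
    Nat.card M ≤ q ^ (2 * (m / 2)) from this ⊥ (by simp [Ti]) M iso (by simp) (by simp [mem_pp])
  intro S
  induction S using WellFoundedGT.induction with | _ S ih
  intro t M iso l l'
  by_cases z : ∀ x ∈ M, x ∈ S
  · exact (Nat.card_le_card_of_injective _ (Set.inclusion_injective z)).trans ((d.card_T S).le.trans
      (Nat.pow_le_pow_right d.q1.le (by have := d.ti_le t; omega)))
  obtain ⟨v, a, b⟩ : ∃ v ∈ M, v ∉ S := by simpa using z
  have F : ∀ x ∈ M, ∀ y ∈ M, σ (hf σ x y) = hf σ x y := fun x i y j => by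
    have := iso _ (add_mem i j); rw [d.sy]; simp only [hf_add_l, hf_add_r, iso x i, iso y j] at this; grind
  let M' : AddSubgroup (Fin m → K) := ⟨⟨⟨{x | ∃ c : K, x + c • v ∈ M ∧ hf σ x v = 0}, fun ⟨c, i, j⟩ ⟨c', i', j'⟩ => ⟨c + c', by
    simpa [add_smul, add_add_add_comm] using add_mem i i', by simp [*]⟩⟩, ⟨0, by simp⟩⟩, fun {x} => by
      rw [neg_eq_of_add_eq_zero_left (vv x)]; exact id⟩
  have pv : ∀ x ∈ S, hf σ x v = 0 := fun x i => d.sw (l' v a x i)
  have ms : ∀ x ∈ S ⊔ Submodule.span K {v}, ∃ y ∈ S, ∃ c : K, x = y + c • v := fun x i => by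
    obtain ⟨y, i', _, j, rfl⟩ := Submodule.mem_sup.1 i
    obtain ⟨c, rfl⟩ := Submodule.mem_span_singleton.1 j; exact ⟨y, i', c, rfl⟩
  refine le_trans ?_ (ih (S ⊔ Submodule.span K {v}) (lt_of_le_of_ne le_sup_left fun e => b (e ▸ Submodule.mem_sup_right
    (Submodule.mem_span_singleton_self v))) (fun x i y j => ?_) M' (fun x ⟨c, i, j⟩ => ?_) (fun x i => ?_) fun x ⟨c, i, j⟩ y k => ?_)
  · by_cases z : ∀ x ∈ M, hf σ x v = 0
    · exact AddSubgroup.card_le_of_le fun x i => ⟨0, by simpa, z x i⟩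
    obtain ⟨x0, i0, j0⟩ : ∃ x ∈ M, hf σ x v ≠ 0 := by simpa using z
    obtain ⟨ω, o⟩ := d.om
    choose! r hr using fun c (h : ∃ x ∈ M, hf σ x v = c) => h
    refine Nat.card_le_card_of_injective (fun x => (⟨x + r (hf σ x v) + (ω * hf σ x v) • v, ω * hf σ x v, ?_, ?_⟩ : M'))
      fun x y e => Subtype.ext ?_
    · rw [add_assoc, vv, add_zero]; exact add_mem x.2 (hr _ ⟨_, x.2, rfl⟩).1
    · simp [(hr _ ⟨_, x.2, rfl⟩).2, iso v a, CharTwo.add_self_eq_zero]
    have e := congrArg Subtype.val e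
    have : hf σ x v = hf σ y v := om_eq o (F _ x.2 _ a) (F _ y.2 _ a) (by
      have := F _ (show (ω * hf σ x v + ω * hf σ y v) • v ∈ M by
        convert add_mem (add_mem x.2 (hr _ ⟨_, x.2, rfl⟩).1) (add_mem y.2 (hr _ ⟨_, y.2, rfl⟩).1) using 1
        ext i; have := congrFun e i; simp at this ⊢; grind) _ i0
      rw [hf_smul_l, map_mul, F _ a _ i0] at this
      exact mul_right_cancel₀ (mt d.sw j0) this)
    simpa [this] using e
  · obtain ⟨x, i', c, rfl⟩ := ms x i; obtain ⟨y, j', c', rfl⟩ := ms y j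
    simp [t x i' y j', pv x i', d.sw (pv y j'), iso v a]
  · simpa [j, d.sw j, iso v a] using iso _ i
  · obtain ⟨x, i', c, rfl⟩ := ms x i
    exact ⟨c, by rw [add_assoc, vv, add_zero]; exact l x i', by simp [pv x i', iso v a]⟩
  · obtain ⟨y, k', c', rfl⟩ := ms y k
    simpa [sq_ap, j, mem_pp.1 (l' v a) y k'] using mem_pp.1 (l' _ i) y k'
section el
variable (l : A ≤ UT σ m) (e : El A)
include l e
theorem dz (ha : a ∈ A) (x y : Fin m → K) : hf σ (a x + x) (a y + y) = 0 := by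
  rw [d.inv_sa (l ha).1 (e a ha), d.inv_D (l ha).1 (e a ha), vv, hf_zero_r]
theorem df (ha : a ∈ A) (x : Fin m → K) : σ (hf σ (a x + x) x) = hf σ (a x + x) x := by rw [d.sy, d.inv_sa (l ha).1 (e a ha)]
variable (hj : j < m / 2) (hy : y ∈ Vf K m (m - j)) (hy' : y ∉ Vf K m (m - (j + 1)))
include hj hy
theorem Dy (ha : a ∈ A) : a y + y ∈ Vf K m (m - (j + 1)) := UT_D (l ha) (by rwa [show m - (j + 1) + 1 = m - j by omega])
include hy'
omit l e in
theorem Vy (hx : x ∈ Vf K m (j + 1)) (f : hf σ x y = 0) : x ∈ Vf K m j := by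
  obtain ⟨c, i⟩ := Vf_succ (show y ∈ Vf K m (m - (j + 1) + 1) by rwa [show m - (j + 1) + 1 = m - j by omega])
  have c0 : c ≠ 0 := fun z => hy' (by simpa [z] using i)
  refine (Vf_pp (σ := σ) (i := m - (j + 1) + 1) (by omega)).le fun z k => ?_
  obtain ⟨c', k⟩ := Vf_succ k
  have h1 := hf_Vf (σ := σ) hx i (by omega); have h2 := hf_Vf (σ := σ) hx k (by omega)
  simp only [vsub, hf_add_r, hf_smul_r, f, zero_add, mul_eq_zero, map_eq_zero, c0, false_or] at h1 h2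
  simpa [h1, sq_ap] using h2
theorem rel {ι : Type} (M : ι → Fin m → K) (S : Set (Fin m → K)) (inj : Function.Injective M)
    (hM : ∀ i i', σ (hf σ (M i + M i') y) = hf σ (M i + M i') y → M i + M i' ∈ Vf K m j)
    (h : ∀ a ∈ A ⊓ Bj σ m (j + 1), ∀ i, a y + y + M i ∈ S) :
    (Bj σ m j).relIndex (A ⊓ Bj σ m (j + 1)) * Nat.card ι ≤ Nat.card S :=
  cnt1 S (fun a i => a y + y + M i) h (fun a ha b hb i i' f => by
    have f : M i + M i' = a y + y + (b y + y) := by ext k; have := congrFun f k; simp at this ⊢; grind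
    have k := hM i i' (by rw [f, hf_add_l, map_add, d.df l e ha.1, d.df l e hb.1])
    have s := mul_mem (inv_mem ha) hb
    have k : (a⁻¹ * b) y + y ∈ Vf K m j := by
      have := UT_fl (inv_mem (l ha.1)) _ _ k
      rwa [f, add_add_add_comm, vv, add_zero, (inv_mem (l ha.1)).1.add, Perm.coe_inv, symm_apply_apply, add_comm] at this
    refine ⟨l s.1, fun x u => ?_⟩
    obtain ⟨c, u⟩ := Vf_succ (show x ∈ Vf K m (m - (j + 1) + 1) by rwa [show m - (j + 1) + 1 = m - j by omega])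
    obtain ⟨c', u'⟩ := Vf_succ (show y ∈ Vf K m (m - (j + 1) + 1) by rwa [show m - (j + 1) + 1 = m - j by omega])
    have c0 : c' ≠ 0 := fun z => hy' (by simpa [z] using u')
    have r : x + (c / c') • y ∈ Vf K m (m - (j + 1)) := by
      convert add_mem u (Submodule.smul_mem _ (c / c') u') using 1; ext; simp [vsub]; field_simp; grind
    have := add_mem (d.Vy hj hy hy' (s.2.2 _ r) (by
      rw [d.inv_sa (l s.1).1 (e _ s.1)]; exact hf_Vf r k (by omega))) (Submodule.smul_mem _ (c / c') k)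
    convert this using 1
    rw [(l s.1).1.add, Sem.smul1 (l s.1).1]; ext; simp; grind) fun a i i' f => inj (add_left_cancel f)
omit l e in
theorem exy : ∃ u ∈ Vf K m (j + 1), hf σ u y = 1 := by
  obtain ⟨u, a, b⟩ := exists_out (T := Vf K m j) (T' := Vf K m (j + 1)) (by rw [Vf_dim, Vf_dim] <;> omega)
  have := mt (d.Vy hj hy hy' a) b
  exact ⟨(hf σ u y)⁻¹ • u, Submodule.smul_mem _ _ a, by simp [this]⟩
theorem step : ∃ M : AddSubgroup (Fin m → K), (∀ x, x ∈ M ↔ ∃ a ∈ A ⊓ Bj σ m (j + 1), a y + y + x ∈ Vf K m (j + 1)) ∧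
    (Bj σ m j).relIndex (A ⊓ Bj σ m (j + 1)) * q ^ (2 * j + 1) ≤ Nat.card M ∧ Nat.card M ≤ q ^ (2 * (m / 2)) := by
  let M : AddSubgroup (Fin m → K) := ⟨⟨⟨{x | ∃ a ∈ A ⊓ Bj σ m (j + 1), a y + y + x ∈ Vf K m (j + 1)},
    fun {x z} ⟨a, i, j⟩ ⟨b, i', j'⟩ => ⟨a * b, mul_mem i i', by
      convert add_mem (add_mem j j') (i.2.2 _ (d.Dy l e hj hy i'.1)) using 1
      rw [(l i.1).1.add]; ext; simp; grind⟩⟩, ⟨1, one_mem _, by simp [vv]⟩⟩, fun {x} => by
      rw [neg_eq_of_add_eq_zero_left (vv x)]; exact id⟩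
  obtain ⟨u, hu, k⟩ := d.exy hj hy hy'
  obtain ⟨ω, o⟩ := d.om
  have z : ∀ x ∈ Vf K m j, hf σ x y = 0 := fun x i => hf_Vf i hy (by omega)
  refine ⟨M, fun _ => .rfl, ?_, d.ts M fun x ⟨a, i, j⟩ => ?_⟩
  · have := d.rel l e hj hy hy' (fun p : Vf K m j × {a : K // σ a = a} => p.1 + (ω * p.2) • u) M (fun p p' f => ?_) (fun p p' f => ?_)
      fun a i p => ⟨a, i, by
        rw [← add_assoc, vv, zero_add]; exact add_mem (Vf_mono j.le_succ p.1.2) (Submodule.smul_mem _ _ hu)⟩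
    · rwa [Nat.card_prod, d.card_V (by omega), d.card_fix, ← pow_succ] at this
    · have h : p.2.1 = p'.2.1 := by
        simpa [z _ p.1.2, z _ p'.1.2, k, show ω ≠ 0 by rintro rfl; simp at o] using congrArg (hf σ · y) f
      exact Prod.ext (Subtype.ext (by simpa [h] using f)) (Subtype.ext h)
    · rw [om_eq o p.2.2 p'.2.2 (by simpa [z _ p.1.2, z _ p'.1.2, k] using f), add_add_add_comm, vv, add_zero]
      exact add_mem p.1.2 p'.1.2
  · have h := d.Dy l e hj hy i.1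
    obtain ⟨z, rfl⟩ : ∃ z, x = a y + y + z := ⟨_, (add_sub_cancel _ x).symm⟩
    rw [← add_assoc, vv, zero_add] at j
    have := d.dz l e i.1 y y
    generalize a y + y = D at *
    simp [this, hf_Vf h j (by omega), hf_Vf j h (by omega), hf_Vf j j (by omega)]
omit hy hy' in
theorem step' {r : ℕ} (h : m / 2 = j + 1 + r) : (Bj σ m j).relIndex (A ⊓ Bj σ m (j + 1)) ≤ q ^ (2 * r + 1) := by
  obtain ⟨y, a, b⟩ := exists_out (T := Vf K m (m - (j + 1))) (T' := Vf K m (m - j)) (by rw [Vf_dim, Vf_dim] <;> omega)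
  obtain ⟨M, -, c, f⟩ := d.step l e hj a b
  refine Nat.le_of_mul_le_mul_right ((c.trans f).trans_eq ?_) (pow_pos (by have := d.q1; omega) _)
  rw [← pow_add, h]; congr 1; ring
omit hj hy hy' in
theorem chain {r s : ℕ} (h : m / 2 = j + s + r) :
    Nat.card ↥(A ⊓ Bj σ m (j + s)) * q ^ r ^ 2 ≤ Nat.card ↥(A ⊓ Bj σ m j) * q ^ (s + r) ^ 2 := by
  induction s generalizing r with
  | zero => simp
  | succ s ih =>
    refine le_trans ?_ ((ih (r := r + 1) (by omega)).trans_eq (by rw [add_assoc, add_comm 1]))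
    rw [← add_assoc, Bj_card A (by omega), mul_assoc, show (r + 1) ^ 2 = 2 * r + 1 + r ^ 2 by ring, pow_add]
    gcongr; exact d.step' l e (by omega) (by omega)
omit hj hy hy' e in
theorem B_top : A ⊓ Bj σ m (m / 2) = A := inf_eq_left.2 fun g i => ⟨l i, fun x k =>
  UT_D (l i) (Vf_mono (by omega) k)⟩
omit hj hy hy'
theorem upB (j r : ℕ) (h : m / 2 = j + r) : Nat.card A ≤ Nat.card ↥(A ⊓ Bj σ m j) * q ^ r ^ 2 := by
  simpa [← h, d.B_top l] using d.chain l e (s := r) (r := 0) h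
theorem jU : Nat.card A ≤ q ^ (m / 2) ^ 2 := by simpa only [B_bot, one_mul] using d.upB l e 0 (m / 2) (by simp)
end el
end D6
end CF.Ud

namespace CF.Ud
open Subgroup Equiv CF.Geom Module CF.Loc CF.LX CF.Dbl
open scoped commutatorElement
variable {K : Type} [Field K] [Fintype K] [CharP K 2] {m q j : ℕ} {σ θ θ' : K ≃+* K} {c ζ ζ' ω : K}
  {g p k ξ α w w' a b : Perm (Fin m → K)} {u v x y n n' u' v' : Fin m → K} {T T' S : Submodule K (Fin m → K)}
  {A B H P O : Subgroup (Perm (Fin m → K))}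
namespace D6
variable (d : D6 σ q m)
include d
theorem W_low (h : j ≤ m / 2) : q ^ j ^ 2 ≤ Nat.card (WX σ (Vf K m j)) := by
  induction j with
  | zero => exact Nat.card_pos
  | succ j ih =>
    have hy : ∀ x ∈ Vf K m j, hf σ (bv (m - (j + 1))) x = 0 := fun x i => hf_Vf (bv_mem (Nat.lt_succ_self _)) i (by omega)
    have h1 : hf σ (bv (m - (j + 1)) : Fin m → K) (bv j) = 1 := by rw [hf_bb (by omega), if_pos (by omega)]
    have t := Vf_ti (σ := σ) (m := m) h
    have b : (bv j : Fin m → K) ∈ Vf K m (j + 1) := bv_mem j.lt_succ_self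
    have o : ∀ (n : Vf K m j) (a : {a : K // σ a = a}), Ok σ (bv j) n.1 a.1 := fun n a =>
      ⟨d.iv, t _ b _ b, t _ (Vf_mono j.le_succ n.2) _ b, by
        rw [a.2, t _ (Vf_mono j.le_succ n.2) _ (Vf_mono j.le_succ n.2), CharTwo.add_self_eq_zero]⟩
    have k : ∀ (w : WX σ (Vf K m j)) (n : Vf K m j) (a : {a : K // σ a = a}), (w * E σ (bv j) n.1 a.1) (bv (m - (j + 1))) =
        bv (m - (j + 1)) + n.1 + a.1 • bv j := fun w n a => by
      rw [Perm.mul_apply, E_ap (o n a), h1, hy _ n.2, one_smul, zero_add, mul_one]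
      exact W_fix w.2 fun z i => by
        simp [hy z i, t _ (Vf_mono j.le_succ n.2) _ (Vf_mono j.le_succ i), t _ b _ (Vf_mono j.le_succ i)]
    refine le_trans ?_ (Nat.card_le_card_of_injective (fun p : WX σ (Vf K m j) × Vf K m j × {a : K // σ a = a} =>
      (⟨p.1 * E σ (bv j) p.2.1.1 p.2.2.1, mul_mem (W_mono (Vf_mono j.le_succ) p.1.2) (E_W b (Vf_mono j.le_succ p.2.1.2) _)⟩ :
        WX σ (Vf K m (j + 1)))) fun ⟨w, n, a⟩ ⟨w', n', a'⟩ f => ?_)
    · rw [Nat.card_prod, Nat.card_prod, d.card_V (by omega), d.card_fix, ← pow_succ,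
        show (j + 1) ^ 2 = j ^ 2 + (2 * j + 1) by ring, pow_add]
      exact Nat.mul_le_mul_right _ (ih (by omega))
    have f := congrArg Subtype.val f
    have f1 := (k w n a).symm.trans ((congrArg (· (bv (m - (j + 1)))) f).trans (k w' n' a'))
    obtain rfl : a = a' := Subtype.ext (by simpa [hy _ n.2, hy _ n'.2, h1, a.2, a'.2] using congrArg (hf σ (bv (m - (j + 1)))) f1)
    obtain rfl : n = n' := Subtype.ext (by simpa using f1)
    exact congrArg (·, n, a) (Subtype.ext (mul_right_cancel f))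
theorem card_W : Nat.card (WW σ m) = q ^ ((m / 2) ^ 2) := le_antisymm (d.jU d.W_le (d.W_el (Vf_ti le_rfl))) (d.W_low le_rfl)
end D6
end CF.Ud

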